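import Groth.Agent.Ega4late.H526.SmoothQf
import Mathlib.AlgebraicGeometry.Morphisms.Smooth
import Mathlib.AlgebraicGeometry.Morphisms.Etale
import Mathlib.AlgebraicGeometry.Morphisms.QuasiFinite

/-!
# Smooth and locally quasi-finite morphisms are étale
-/

set_option autoImplicit false
universe u
open CategoryTheory CategoryTheory.Limits AlgebraicGeometry

namespace K776.SmoothLqf

open Groth.Agent

theorem etale_ring {A B : Type u} [CommRing A] [CommRing B] (φ : A →+* B) (h : φ.Smooth)
    (h' : φ.QuasiFinite) : φ.Etale := by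
  algebraize [φ]
  have : Algebra.QuasiFinite A B := h'
  have : Algebra.Smooth A B := h
  change Algebra.Etale A B
  rw [← Algebra.etaleLocus_eq_univ_iff_etale, Set.eq_univ_iff_forall]
  intro q
  exact Ega4late.H526.SmoothQf.isEtaleAt_of_isSmoothAt_of_quasiFiniteAt A B q.asIdeal

theorem etale_of_smooth_of_locallyQuasiFinite {X Y : Scheme.{u}} (f : X ⟶ Y) [Smooth f]
    [LocallyQuasiFinite f] : Etale f where
  etale_appLE hU _ hV e := etale_ring _ (f.smooth_appLE hU hV e)
    (LocallyQuasiFinite.quasiFinite_appLE hU hV e)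

end K776.SmoothLqf
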