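import Mathlib.AlgebraicGeometry.Morphisms.Smooth
import Mathlib.AlgebraicGeometry.Morphisms.Etale
import Mathlib.CategoryTheory.Comma.Over.Pullback
import Mathlib.CategoryTheory.Monoidal.Cartesian.Over
import Mathlib.AlgebraicGeometry.Pullbacks

/-!
# Restriction of `S`-morphisms to an open subscheme of the base

`Over.pullback U.ι` on morphisms versus precomposition with the open immersion `Z.hom ⁻¹ᵁ U ⟶ Z`.
-/

set_option autoImplicit false
universe u
open CategoryTheory CategoryTheory.Limits AlgebraicGeometry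

namespace K776.Basic

/-- General form: two morphisms have the same pullback along `j` iff they agree after composition with
the first projection. -/
lemma map_eq_iff {S T : Scheme.{u}} (j : T ⟶ S) {Z N : Over S} (g g' : Z ⟶ N) :
    (Over.pullback j).map g = (Over.pullback j).map g' ↔
      pullback.fst Z.hom j ≫ g.left = pullback.fst Z.hom j ≫ g'.left := by
  constructor
  · intro h
    have h1 := congr($(h).left ≫ pullback.fst N.hom j)
    simp only [Over.pullback_map_left] at h1
    rwa [pullback.lift_fst, pullback.lift_fst] at h1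
  · intro h
    ext1
    simp only [Over.pullback_map_left]
    apply pullback.hom_ext <;> simp [h]

/-- The comparison between the base change of `Z` to an open `U` of `S` and the open subscheme
`Z.hom ⁻¹ᵁ U` of `Z`. -/
noncomputable def resIso {S : Scheme.{u}} (U : S.Opens) (Z : Over S) :
    ((Over.pullback U.ι).obj Z).left ≅ (Z.hom ⁻¹ᵁ U : Scheme.{u}) :=
  pullbackRestrictIsoRestrict Z.hom U

@[reassoc]
lemma resIso_hom_ι {S : Scheme.{u}} (U : S.Opens) (Z : Over S) :
    (resIso U Z).hom ≫ (Z.hom ⁻¹ᵁ U).ι = pullback.fst Z.hom U.ι :=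
  pullbackRestrictIsoRestrict_hom_ι _ _

@[reassoc]
lemma resIso_inv_fst {S : Scheme.{u}} (U : S.Opens) (Z : Over S) :
    (resIso U Z).inv ≫ pullback.fst Z.hom U.ι = (Z.hom ⁻¹ᵁ U).ι :=
  pullbackRestrictIsoRestrict_inv_fst _ _

lemma map_eq_iff' {S : Scheme.{u}} (U : S.Opens) {Z N : Over S} (g g' : Z ⟶ N) :
    (Over.pullback U.ι).map g = (Over.pullback U.ι).map g' ↔
      (Z.hom ⁻¹ᵁ U).ι ≫ g.left = (Z.hom ⁻¹ᵁ U).ι ≫ g'.left := by
  rw [map_eq_iff, ← resIso_hom_ι, Category.assoc, Category.assoc, cancel_epi]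

/-- Morphisms of restrictions over `U` correspond to morphisms over `S` from the restriction. -/
lemma exists_map_eq_iff {S : Scheme.{u}} (U : S.Opens) {Z N : Over S} :
    Function.Surjective (fun g : Z ⟶ N => (Over.pullback U.ι).map g) ↔
      ∀ h : (Z.hom ⁻¹ᵁ U : Scheme.{u}) ⟶ N.left, h ≫ N.hom = (Z.hom ⁻¹ᵁ U).ι ≫ Z.hom →
        ∃ g : Z ⟶ N, (Z.hom ⁻¹ᵁ U).ι ≫ g.left = h := by
  constructor
  · intro H h hh
    let k : (Over.pullback U.ι).obj Z ⟶ (Over.pullback U.ι).obj N :=
      Over.homMk (pullback.lift ((resIso U Z).hom ≫ h) (pullback.snd Z.hom U.ι) (by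
        rw [Category.assoc, hh, resIso_hom_ι_assoc, pullback.condition]))
        (pullback.lift_snd _ _ _)
    obtain ⟨g, hg⟩ := H k
    refine ⟨g, ?_⟩
    have h1 := congr($(hg).left ≫ pullback.fst N.hom U.ι)
    simp only [Over.pullback_map_left, k, Over.homMk_left] at h1
    rw [pullback.lift_fst, pullback.lift_fst] at h1
    rw [← cancel_epi (resIso U Z).hom, ← h1, resIso_hom_ι_assoc]
  · intro H k
    obtain ⟨g, hg⟩ := H ((resIso U Z).inv ≫ k.left ≫ pullback.fst N.hom U.ι) (by
      have h1 := Over.w k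
      simp only [Over.pullback_obj_hom] at h1
      rw [Category.assoc, Category.assoc, pullback.condition, ← resIso_inv_fst, Category.assoc,
        pullback.condition, reassoc_of% h1])
    refine ⟨g, ?_⟩
    ext1
    simp only [Over.pullback_map_left]
    apply pullback.hom_ext
    · simp only [pullback.lift_fst]
      rw [← resIso_hom_ι_assoc, hg, Iso.hom_inv_id_assoc]
    · have h1 := Over.w k
      simp only [Over.pullback_obj_hom] at h1
      rw [pullback.lift_snd, h1]

lemma injective_iff {S : Scheme.{u}} (U : S.Opens) {Z N : Over S} :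
    Function.Injective (fun g : Z ⟶ N => (Over.pullback U.ι).map g) ↔
      ∀ g g' : Z ⟶ N, (Z.hom ⁻¹ᵁ U).ι ≫ g.left = (Z.hom ⁻¹ᵁ U).ι ≫ g'.left → g = g' := by
  constructor
  · intro H g g' h
    exact H ((map_eq_iff' U g g').mpr h)
  · intro H g g' h
    exact H g g' ((map_eq_iff' U g g').mp h)

lemma bijective_iff {S : Scheme.{u}} (U : S.Opens) {Z N : Over S} :
    Function.Bijective (fun g : Z ⟶ N => (Over.pullback U.ι).map g) ↔
      (∀ g g' : Z ⟶ N, (Z.hom ⁻¹ᵁ U).ι ≫ g.left = (Z.hom ⁻¹ᵁ U).ι ≫ g'.left → g = g') ∧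
      ∀ h : (Z.hom ⁻¹ᵁ U : Scheme.{u}) ⟶ N.left, h ≫ N.hom = (Z.hom ⁻¹ᵁ U).ι ≫ Z.hom →
        ∃ g : Z ⟶ N, (Z.hom ⁻¹ᵁ U).ι ≫ g.left = h := by
  rw [Function.Bijective, injective_iff, exists_map_eq_iff]

end K776.Basic
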