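import Groth.Agent.Ega2.GeoRelDim

/-!
# A smooth morphism which is étale on a dense open subscheme of the source is étale
-/

set_option autoImplicit false
universe u
open CategoryTheory CategoryTheory.Limits AlgebraicGeometry

namespace K776.EtaleDense

open Groth.Agent Groth.Agent.Ega2.GeoRelDim

theorem relDim_homOfLE {X S : Scheme.{u}} (f : X ⟶ S) (V W : X.Opens) (h : W ≤ V) (m : ℕ)
    (hV : SmoothOfRelativeDimension m (V.ι ≫ f)) : SmoothOfRelativeDimension m (W.ι ≫ f) := by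
  have h1 := smoothOfRelativeDimension_comp (n := 0) (m := m) (X.homOfLE h) (V.ι ≫ f)
  rw [zero_add, ← Category.assoc, X.homOfLE_ι] at h1
  exact h1

theorem etale_of_dense {X S : Scheme.{u}} (f : X ⟶ S) [Smooth f] (W : X.Opens)
    (hW : Dense (W : Set X)) (h : Etale (W.ι ≫ f)) : Etale f := by
  rw [Etale.iff_smoothOfRelativeDimension_zero]
  refine ⟨fun x ↦ ?_⟩
  obtain ⟨U, hU, V, hV, hx, e, hs⟩ := Smooth.exists_isStandardSmooth f x
  obtain ⟨m, hm⟩ := Picfga.CurveRelDim.exists_relativeDimension hs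
  have hV' := smoothOfRelativeDimension_ι_comp f m U hU V hV e hm
  obtain ⟨y, hyV, hyW⟩ := hW.inter_open_nonempty V V.2 ⟨x, hx⟩
  have h1 := relDim_homOfLE f V (V ⊓ W) inf_le_left m hV'
  have h2 := relDim_homOfLE f W (V ⊓ W) inf_le_right 0
    ((Etale.iff_smoothOfRelativeDimension_zero _).mp h)
  obtain rfl := relDim_unique _ m 0 h1 h2 ⟨y, hyV, hyW⟩
  exact ⟨U, hU, V, hV, hx, e, hm⟩

end K776.EtaleDense
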