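import Groth.Agent.NeronHD.K776.JacLocus
import Groth.Agent.NeronHD.K776.EtaleDense
import Groth.Agent.Etdl.H426.ChartLocus
import Groth.Agent.Sga4h.H924.Codim
import Groth.Agent.Flat2E.Thick

/-!
# A morphism between smooth schemes of the same relative dimension, étale over an open of the base whose
complement has codimension at least 2, is étale
-/

set_option autoImplicit false
universe u
open CategoryTheory CategoryTheory.Limits AlgebraicGeometry TopologicalSpace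

namespace K776.EtaleCodim

open Groth.Agent Groth.Agent.Ega2.GeoRelDim Groth.Agent.Etdl.H426.ChartLocus

variable {X Y S : Scheme.{u}}

theorem etaleLocus_comp_openImmersion (f : X ⟶ Y) (j : Y ⟶ S) [IsOpenImmersion j] :
    Pi1X.etaleLocus (f ≫ j) = Pi1X.etaleLocus f := by
  ext x
  change x ∈ Pi1X.etaleLocus (f ≫ j) ↔ x ∈ Pi1X.etaleLocus f
  rw [mem_etaleLocus_iff, mem_etaleLocus_iff]
  refine exists_congr fun U => and_congr_right fun _ => ?_
  rw [← Category.assoc]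
  exact ⟨fun h => Etale.of_comp _ j, fun h => inferInstance⟩

theorem mem_etaleLocus_chart (f : X ⟶ Y) [LocallyOfFinitePresentation f] {V : Y.Opens}
    (hV : IsAffineOpen V) {W : X.Opens} (hW : IsAffineOpen W) (e : W ≤ f ⁻¹ᵁ V)
    (q : PrimeSpectrum Γ(X, W)) :
    letI := (f.appLE V W e).hom.toAlgebra
    hW.fromSpec q ∈ Pi1X.etaleLocus f ↔ Algebra.IsEtaleAt Γ(Y, V) q.asIdeal := by
  let _ := (f.appLE V W e).hom.toAlgebra
  have hfp : Algebra.FinitePresentation Γ(Y, V) Γ(X, W) := f.finitePresentation_appLE hV hW e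
  refine (mem_etaleLocus_of_comp hW.fromSpec f q).symm.trans ?_
  rw [← hV.SpecMap_appLE_fromSpec f hW e, etaleLocus_comp_openImmersion]
  exact mem_etaleLocus_specMap' (R := Γ(Y, V)) (D := Γ(X, W)) q

/-- Charts. -/
theorem exists_chart (f : X ⟶ S) (n : ℕ) [SmoothOfRelativeDimension n f] (x : X) {U : S.Opens}
    (hU : IsAffineOpen U) (O : X.Opens) (hxO : x ∈ O) (hO : O ≤ f ⁻¹ᵁ U) :
    ∃ V : X.Opens, IsAffineOpen V ∧ x ∈ V ∧ V ≤ O ∧ ∃ e : V ≤ f ⁻¹ᵁ U,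
      (f.appLE U V e).hom.IsStandardSmoothOfRelativeDimension n := by
  obtain ⟨V, hV, hxV, hVO⟩ := Opens.isBasis_iff_nbhd.mp X.isBasis_affineOpens hxO
  have hf : SmoothOfRelativeDimension n f := inferInstance
  have e : V ≤ f ⁻¹ᵁ U := hVO.trans hO
  simp_rw [HasRingHomProperty.iff_appLE (P := @SmoothOfRelativeDimension n),
    RingHom.locally_iff_isLocalization (RingHom.isStandardSmoothOfRelativeDimension_respectsIso (n := n))] at hf
  obtain ⟨s, hs, hfs⟩ := hf ⟨U, hU⟩ ⟨V, hV⟩ e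
  apply iSup_basicOpen_of_span_eq_top at hs
  have : x ∈ (⨆ i ∈ s, X.basicOpen i) := hs.symm ▸ hxV
  have : ∃ r ∈ s, x ∈ X.basicOpen r := by simpa using this
  obtain ⟨r, hr, hrs⟩ := this
  refine ⟨X.basicOpen r, hV.basicOpen r, hrs, (X.basicOpen_le r).trans hVO, (X.basicOpen_le r).trans e, ?_⟩
  rw [← f.appLE_map e (homOfLE (X.basicOpen_le r)).op]
  have : IsLocalization.Away r Γ(X, X.basicOpen r) := hV.isLocalization_basicOpen r
  exact hfs r hr _

theorem mem_etaleLocus_of_codim [IsLocallyNoetherian S] (f : X ⟶ Y) (g : Y ⟶ S) (n : ℕ)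
    [LocallyOfFinitePresentation f] [Smooth (f ≫ g)] {U : S.Opens}
    {V : Y.Opens} (hV : IsAffineOpen V) {W : X.Opens} (hW : IsAffineOpen W) (e₁ : V ≤ g ⁻¹ᵁ U)
    (e₂ : W ≤ f ⁻¹ᵁ V) (e₃ : W ≤ (f ≫ g) ⁻¹ᵁ U)
    (h₁ : (g.appLE U V e₁).hom.IsStandardSmoothOfRelativeDimension n)
    (h₂ : ((f ≫ g).appLE U W e₃).hom.IsStandardSmoothOfRelativeDimension n)
    (S₁ : S.Opens) (hcodim : ∀ x : S, x ∉ S₁ → (2 : WithBot ℕ∞) ≤ ringKrullDim (S.presheaf.stalk x))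
    (h : ∀ y ∈ W, (f ≫ g) y ∈ S₁ → y ∈ Pi1X.etaleLocus f) (x : X) (hx : x ∈ W) :
    x ∈ Pi1X.etaleLocus f := by
  have hXN : IsLocallyNoetherian X := LocallyOfFiniteType.isLocallyNoetherian (f ≫ g)
  have hN : IsNoetherianRing Γ(X, W) := IsLocallyNoetherian.component_noetherian ⟨W, hW⟩
  let _ : Algebra Γ(S, U) Γ(Y, V) := (g.appLE U V e₁).hom.toAlgebra
  let _ : Algebra Γ(Y, V) Γ(X, W) := (f.appLE V W e₂).hom.toAlgebra
  let _ : Algebra Γ(S, U) Γ(X, W) := ((f ≫ g).appLE U W e₃).hom.toAlgebra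
  have : IsScalarTower Γ(S, U) Γ(Y, V) Γ(X, W) := by
    refine IsScalarTower.of_algebraMap_eq' ?_
    have := Scheme.Hom.appLE_comp_appLE f g U V W e₁ e₂
    exact congrArg CommRingCat.Hom.hom this.symm
  have i1 : Algebra.IsStandardSmoothOfRelativeDimension n Γ(S, U) Γ(Y, V) := h₁
  have i2 : Algebra.IsStandardSmoothOfRelativeDimension n Γ(S, U) Γ(X, W) := h₂
  obtain ⟨δ, hδ⟩ := JacLocus.exists_jac Γ(S, U) Γ(Y, V) Γ(X, W) n
  have key : ∀ q : PrimeSpectrum Γ(X, W), hW.fromSpec q ∈ Pi1X.etaleLocus f ↔ δ ∉ q.asIdeal :=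
    fun q => (mem_etaleLocus_chart f hV hW e₂ q).trans (hδ q.asIdeal)
  have hxq : hW.fromSpec (hW.primeIdealOf ⟨x, hx⟩) = x := hW.fromSpec_primeIdealOf ⟨x, hx⟩
  rw [← hxq, key]
  intro hmem
  obtain ⟨p, hp, hpq⟩ := Ideal.exists_minimalPrimes_le
    (J := (hW.primeIdealOf ⟨x, hx⟩).asIdeal) (I := Ideal.span {δ}) (by
      rw [Ideal.span_le, Set.singleton_subset_iff]; exact hmem)
  have hpp : p.IsPrime := hp.isPrime
  have hδp : δ ∈ p := hp.1.2 (Ideal.subset_span rfl)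
  let q : PrimeSpectrum Γ(X, W) := ⟨p, hpp⟩
  have hqW : hW.fromSpec q ∈ W := by
    have : hW.fromSpec q ∈ Set.range hW.fromSpec := ⟨q, rfl⟩
    rwa [hW.range_fromSpec] at this
  have hns : (f ≫ g) (hW.fromSpec q) ∉ S₁ := fun hs =>
    (key q).mp (h _ hqW hs) hδp
  have h5 := (hcodim _ hns).trans (Sga4h.H924.Codim.le_ringKrullDim_of_flat (f ≫ g) (hW.fromSpec q))
  have h6 : ringKrullDim (X.presheaf.stalk (hW.fromSpec q)) = p.height := by
    let _ := TopCat.Presheaf.algebra_section_stalk X.presheaf ⟨hW.fromSpec q, hqW⟩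
    have : IsLocalization.AtPrime (X.presheaf.stalk (hW.fromSpec q)) p :=
      hW.isLocalization_stalk' q hqW
    exact IsLocalization.AtPrime.ringKrullDim_eq_height p _
  rw [h6] at h5
  have h7 := Ideal.height_le_one_of_isPrincipal_of_mem_minimalPrimes (Ideal.span {δ}) p hp
  have h8 : (2 : ℕ∞) ≤ p.height := WithBot.coe_le_coe.mp h5
  exact absurd (h8.trans h7) (by decide)

set_option backward.isDefEq.respectTransparency false in
theorem etale_of_forall_mem_etaleLocus (f : X ⟶ Y) (h : ∀ x, x ∈ Pi1X.etaleLocus f) : Etale f := by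
  choose U hxU hU using fun x => (mem_etaleLocus_iff f x).mp (h x)
  rw [IsZariskiLocalAtSource.iff_of_iSup_eq_top (P := @Etale) U]
  · exact hU
  · rw [eq_top_iff]
    intro x _
    exact (le_iSup U x) (hxU x)

theorem etale_of_relDim [IsLocallyNoetherian S] (f : X ⟶ Y) (g : Y ⟶ S) (n : ℕ)
    [SmoothOfRelativeDimension n g] [SmoothOfRelativeDimension n (f ≫ g)]
    (S₁ : S.Opens) (hcodim : ∀ x : S, x ∉ S₁ → (2 : WithBot ℕ∞) ≤ ringKrullDim (S.presheaf.stalk x))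
    (h : ∀ y, (f ≫ g) y ∈ S₁ → y ∈ Pi1X.etaleLocus f) : Etale f := by
  apply etale_of_forall_mem_etaleLocus
  intro x
  have hs1 : Smooth g := SmoothOfRelativeDimension.smooth n g
  have hs2 : Smooth (f ≫ g) := SmoothOfRelativeDimension.smooth n (f ≫ g)
  have hfp : LocallyOfFinitePresentation f := Flat2E.Thick.locallyOfFinitePresentation_of_comp f g
  obtain ⟨U, hU, hxU, -⟩ := exists_isAffineOpen_mem_and_subset (x := g (f x)) (U := ⊤) trivial
  obtain ⟨V, hV, hxV, hVU, e₁, h₁⟩ := exists_chart g n (f x) hU (g ⁻¹ᵁ U) hxU le_rfl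
  obtain ⟨W, hW, hxW, hWV, e₃, h₃⟩ := exists_chart (f ≫ g) n x hU (f ⁻¹ᵁ V) hxV
    (f.preimage_mono e₁)
  exact mem_etaleLocus_of_codim f g n hV hW e₁ hWV e₃ h₁ h₃ S₁ hcodim (fun y _ hy => h y hy) x hxW

/-- Neighbourhoods of constant relative dimension. -/
theorem exists_relDim_nhd (f : X ⟶ S) [Smooth f] (x : X) :
    ∃ (O : X.Opens) (n : ℕ), x ∈ O ∧ SmoothOfRelativeDimension n (O.ι ≫ f) := by
  obtain ⟨U, hU, V, hV, hx, e, hs⟩ := Smooth.exists_isStandardSmooth f x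
  obtain ⟨m, hm⟩ := Picfga.CurveRelDim.exists_relativeDimension hs
  exact ⟨V, m, hx, smoothOfRelativeDimension_ι_comp f m U hU V hV e hm⟩

theorem etale_of_codim [IsLocallyNoetherian S] (f : X ⟶ Y) (g : Y ⟶ S) [Smooth g] [Smooth (f ≫ g)]
    (S₁ : S.Opens) (hcodim : ∀ x : S, x ∉ S₁ → (2 : WithBot ℕ∞) ≤ ringKrullDim (S.presheaf.stalk x))
    (hdense : Dense ((f ≫ g) ⁻¹ᵁ S₁ : Set X))
    (h : Etale (((f ≫ g) ⁻¹ᵁ S₁).ι ≫ f)) : Etale f := by
  apply etale_of_forall_mem_etaleLocus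
  intro x
  have h1 : ∀ y, (f ≫ g) y ∈ S₁ → y ∈ Pi1X.etaleLocus f := fun y hy =>
    (mem_etaleLocus_iff f y).mpr ⟨_, hy, h⟩
  obtain ⟨O', m, hxO', hO'⟩ := exists_relDim_nhd g (f x)
  obtain ⟨O₀, n, hxO₀, hO₀⟩ := exists_relDim_nhd (f ≫ g) x
  let O : X.Opens := O₀ ⊓ f ⁻¹ᵁ O'
  have hxO : x ∈ O := ⟨hxO₀, hxO'⟩
  have hO : SmoothOfRelativeDimension n (O.ι ≫ f ≫ g) :=
    EtaleDense.relDim_homOfLE (f ≫ g) O₀ O inf_le_left n hO₀
  have hle : O ≤ f ⁻¹ᵁ O' := inf_le_right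
  let f' : (O : Scheme.{u}) ⟶ O' := f.resLE O' O hle
  have hf' : f' ≫ O'.ι = O.ι ≫ f := Scheme.Hom.resLE_comp_ι f hle
  have hcomp : f' ≫ O'.ι ≫ g = O.ι ≫ f ≫ g := by rw [reassoc_of% hf']
  -- the relative dimensions agree
  obtain ⟨y, hyO, hyS⟩ := hdense.inter_open_nonempty O O.2 ⟨x, hxO⟩
  have hmn : n = m := by
    let P : X.Opens := O ⊓ (f ≫ g) ⁻¹ᵁ S₁
    have h2 : SmoothOfRelativeDimension n (P.ι ≫ f ≫ g) :=
      EtaleDense.relDim_homOfLE (f ≫ g) O P inf_le_left n hO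
    have h3 : Etale (P.ι ≫ f) := by
      have h4 : Etale (X.homOfLE (inf_le_right : P ≤ (f ≫ g) ⁻¹ᵁ S₁) ≫ ((f ≫ g) ⁻¹ᵁ S₁).ι ≫ f) := inferInstance
      rwa [← Category.assoc, X.homOfLE_ι] at h4
    have hPO' : P ≤ f ⁻¹ᵁ O' := inf_le_left.trans hle
    have h5 : f.resLE O' P hPO' ≫ O'.ι = P.ι ≫ f := Scheme.Hom.resLE_comp_ι f hPO'
    have h6 : Etale (f.resLE O' P hPO') := by
      have : Etale (f.resLE O' P hPO' ≫ O'.ι) := by rw [h5]; exact h3
      exact Etale.of_comp _ O'.ι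
    have h7 : SmoothOfRelativeDimension 0 (f.resLE O' P hPO') :=
      (Etale.iff_smoothOfRelativeDimension_zero _).mp h6
    have h8 := smoothOfRelativeDimension_comp (n := 0) (m := m) (f.resLE O' P hPO') (O'.ι ≫ g)
    rw [zero_add, reassoc_of% h5] at h8
    exact relDim_unique _ n m h2 h8 ⟨y, hyO, hyS⟩
  subst hmn
  have h9 : SmoothOfRelativeDimension n (f' ≫ O'.ι ≫ g) := by rw [hcomp]; exact hO
  have h10 : Etale f' := by
    apply etale_of_relDim f' (O'.ι ≫ g) n S₁ hcodim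
    intro z hz
    rw [hcomp] at hz
    have h11 : O.ι z ∈ Pi1X.etaleLocus f := h1 _ hz
    rw [← etaleLocus_comp_openImmersion f' O'.ι, hf', mem_etaleLocus_of_comp]
    exact h11
  rw [mem_etaleLocus_iff]
  refine ⟨O, hxO, ?_⟩
  rw [← hf']
  infer_instance

end K776.EtaleCodim
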