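import Groth.Agent.Ega2.Normal
import Groth.Agent.Ega4dB.SchDense
import Groth.Agent.S2260
import Groth.Agent.S3842
import Groth.Agent.S3843
import Mathlib.AlgebraicGeometry.Gluing
import Mathlib.AlgebraicGeometry.Cover.Open

/-!
# Extension of morphisms to an integral scheme over the base, from a dense open of a normal scheme
-/

set_option autoImplicit false
universe u
open CategoryTheory CategoryTheory.Limits AlgebraicGeometry

namespace K776.Extend

open Groth.Agent

/-- Gluing of local extensions of a morphism defined on a schematically dense open, to a separated target. -/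
theorem glue {S Z T : Scheme.{u}} (π : T ⟶ S) [IsSeparated π] (z : Z ⟶ S) (V : Z.Opens)
    (hV : CInt.IsSchematicallyDense V) (h : (V : Scheme.{u}) ⟶ T)
    (hloc : ∀ x : Z, ∃ (W : Z.Opens) (_ : x ∈ W) (g : (W : Scheme.{u}) ⟶ T),
      g ≫ π = W.ι ≫ z ∧ pullback.fst W.ι V.ι ≫ g = pullback.snd W.ι V.ι ≫ h) :
    ∃ g : Z ⟶ T, g ≫ π = z ∧ V.ι ≫ g = h := by
  choose W hxW g hg hgV using hloc
  let 𝒰 : Z.OpenCover :=
    { I₀ := Z
      X := fun x => W x
      f := fun x => (W x).ι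
      mem₀ := by
        rw [Scheme.presieve₀_mem_precoverage_iff]
        refine ⟨fun x => ⟨x, ?_⟩, fun x => inferInstance⟩
        rw [Scheme.Opens.range_ι]
        exact hxW x }
  have hglue : ∀ x y : Z, pullback.fst (W x).ι (W y).ι ≫ g x = pullback.snd (W x).ι (W y).ι ≫ g y := by
    intro x y
    let m : pullback (W x).ι (W y).ι ⟶ Z := pullback.fst (W x).ι (W y).ι ≫ (W x).ι
    have hm : pullback.snd (W x).ι (W y).ι ≫ (W y).ι = m := pullback.condition.symm
    have hd := S3843.result m V hV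
    apply Ega4dB.SchDense.ext_of_isSchematicallyDense π _ (m ⁻¹ᵁ V) hd
    · have e : m ∣_ V ≫ V.ι = (m ⁻¹ᵁ V).ι ≫ m := morphismRestrict_ι m V
      have h1 : ((m ⁻¹ᵁ V).ι ≫ pullback.fst (W x).ι (W y).ι) ≫ g x = (m ∣_ V) ≫ h := by
        have := congr(pullback.lift ((m ⁻¹ᵁ V).ι ≫ pullback.fst (W x).ι (W y).ι) (m ∣_ V) (by
          rw [e, Category.assoc]) ≫ $(hgV x))
        rwa [pullback.lift_fst_assoc, pullback.lift_snd_assoc] at this
      have h2 : ((m ⁻¹ᵁ V).ι ≫ pullback.snd (W x).ι (W y).ι) ≫ g y = (m ∣_ V) ≫ h := by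
        have := congr(pullback.lift ((m ⁻¹ᵁ V).ι ≫ pullback.snd (W x).ι (W y).ι) (m ∣_ V) (by
          rw [e, Category.assoc, hm]) ≫ $(hgV y))
        rwa [pullback.lift_fst_assoc, pullback.lift_snd_assoc] at this
      rw [← Category.assoc, ← Category.assoc, h1, h2]
    · rw [Category.assoc, Category.assoc, hg, hg, pullback.condition_assoc]
  refine ⟨𝒰.glueMorphisms g hglue, ?_, ?_⟩
  · apply Scheme.Cover.hom_ext 𝒰
    intro x
    rw [← Category.assoc, Scheme.Cover.ι_glueMorphisms]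
    exact hg x
  · apply Scheme.Cover.hom_ext (𝒰.pullback₁ V.ι)
    intro x
    change pullback.fst V.ι (W x).ι ≫ V.ι ≫ _ = pullback.fst V.ι (W x).ι ≫ h
    have h1 : (W x).ι ≫ 𝒰.glueMorphisms g hglue = g x := Scheme.Cover.ι_glueMorphisms 𝒰 g hglue x
    rw [← Category.assoc, pullback.condition, Category.assoc, h1]
    have := congr(pullback.lift (pullback.snd V.ι (W x).ι) (pullback.fst V.ι (W x).ι)
      pullback.condition.symm ≫ $(hgV x))
    rwa [pullback.lift_fst_assoc, pullback.lift_snd_assoc] at this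

/-- A morphism from a schematically dense open of a normal locally Noetherian scheme to an integral `S`-scheme
extends. -/
theorem exists_extension {S Z T : Scheme.{u}} (π : T ⟶ S) [IsIntegralHom π] (z : Z ⟶ S)
    [IsLocallyNoetherian Z] (hZ : Pi1.IsNormalScheme Z) (V : Z.Opens)
    (hV : CInt.IsSchematicallyDense V) (h : (V : Scheme.{u}) ⟶ T) (hh : h ≫ π = V.ι ≫ z) :
    ∃ g : Z ⟶ T, g ≫ π = z ∧ V.ι ≫ g = h := by
  apply glue π z V hV h
  intro x
  have := (hZ x).1
  obtain ⟨W, hxW, hW⟩ := S2260.result Z x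
  have hWn : Pi1.IsNormalScheme (W : Scheme.{u}) := by
    intro w
    have e : Z.presheaf.stalk (W.ι w) ≃+* (W : Scheme.{u}).presheaf.stalk w :=
      (asIso (W.ι.stalkMap w)).commRingCatIsoToRingEquiv
    have h1 := (hZ (W.ι w)).1
    have h2 := (hZ (W.ι w)).2
    have h3 : IsDomain ((W : Scheme.{u}).presheaf.stalk w) := e.symm.toMulEquiv.isDomain _
    exact ⟨h3, IsIntegrallyClosed.of_equiv e⟩
  have hne : ((W.ι ⁻¹ᵁ V : (W : Scheme.{u}).Opens) : Set (W : Scheme.{u})).Nonempty := by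
    obtain ⟨y, hyW, hyV⟩ := (S3842.dense_of_isSchematicallyDense V hV).inter_open_nonempty W W.2 ⟨x, hxW⟩
    exact ⟨⟨y, hyW⟩, hyV⟩
  let p : pullback π (W.ι ≫ z) ⟶ W := pullback.snd π (W.ι ≫ z)
  have hp : IsIntegralHom p := inferInstanceAs (IsIntegralHom (pullback.snd π (W.ι ≫ z)))
  have e : W.ι ∣_ V ≫ V.ι = (W.ι ⁻¹ᵁ V).ι ≫ W.ι := morphismRestrict_ι W.ι V
  let s : ((W.ι ⁻¹ᵁ V : (W : Scheme.{u}).Opens) : Scheme.{u}) ⟶ pullback π (W.ι ≫ z) :=
    pullback.lift ((W.ι ∣_ V) ≫ h) (W.ι ⁻¹ᵁ V).ι (by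
      rw [Category.assoc, hh, reassoc_of% e])
  obtain ⟨s', h1, h2⟩ := Ega2.Normal.exists_section_extending hWn p (W.ι ⁻¹ᵁ V) hne s
    (pullback.lift_snd _ _ _)
  refine ⟨W, hxW, s' ≫ pullback.fst π (W.ι ≫ z), ?_, ?_⟩
  · rw [Category.assoc, pullback.condition, ← Category.assoc, h1, Category.id_comp]
  · rw [← pullbackRestrictIsoRestrict_hom_ι, Category.assoc, reassoc_of% h2,
      pullback.lift_fst, ← Category.assoc, pullbackRestrictIsoRestrict_hom_morphismRestrict]

end K776.Extend
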