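import Groth.Agent.NeronHD.K776.Basic

/-!
# Formal permanence properties of the Néron mapping property
-/

set_option autoImplicit false
universe u
open CategoryTheory CategoryTheory.Limits AlgebraicGeometry

namespace K776.Formal

open K776.Basic

set_option backward.isDefEq.respectTransparency false in
/-- Smoothness cancels étale morphisms. -/
lemma smooth_of_comp_etale {X Y Z : Scheme.{u}} (f : X ⟶ Y) (g : Y ⟶ Z) [Smooth (f ≫ g)] [Etale g] :
    Smooth f := by
  have hm : MorphismProperty.IsMultiplicative @Smooth.{u} := { id_mem := fun X => inferInstance }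
  have : MorphismProperty.HasOfPostcompProperty @Smooth.{u} @Etale.{u} := by
    rw [MorphismProperty.hasOfPostcompProperty_iff_le_diagonal]
    intro X Y f hf
    exact inferInstanceAs <| Smooth (pullback.diagonal f)
  exact MorphismProperty.of_postcomp (W := @Smooth.{u}) (W' := @Etale.{u}) f g ‹_› ‹_›

variable {S : Scheme.{u}} (U : S.Opens)

/-- Uniqueness half for a single test object. -/
def UniqAt (Z N : Over S) : Prop :=
  ∀ g g' : Z ⟶ N, (Z.hom ⁻¹ᵁ U).ι ≫ g.left = (Z.hom ⁻¹ᵁ U).ι ≫ g'.left → g = g'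

/-- Existence half for a single test object. -/
def ExtAt (Z N : Over S) : Prop :=
  ∀ h : (Z.hom ⁻¹ᵁ U : Scheme.{u}) ⟶ N.left, h ≫ N.hom = (Z.hom ⁻¹ᵁ U).ι ≫ Z.hom →
        ∃ g : Z ⟶ N, (Z.hom ⁻¹ᵁ U).ι ≫ g.left = h

variable {U}

lemma bij_iff {Z N : Over S} :
    Function.Bijective (fun g : Z ⟶ N => (Over.pullback U.ι).map g) ↔ UniqAt U Z N ∧ ExtAt U Z N :=
  bijective_iff U

lemma inj_iff {Z N : Over S} :
    Function.Injective (fun g : Z ⟶ N => (Over.pullback U.ι).map g) ↔ UniqAt U Z N :=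
  injective_iff U

/-- Fibre product. -/
lemma prod_uniqAt {Z N M : Over S} (hN : UniqAt U Z N) (hM : UniqAt U Z M) :
    UniqAt U Z (Over.mk (pullback.fst N.hom M.hom ≫ N.hom)) := by
  intro g g' h
  have h1 : g.left ≫ pullback.fst N.hom M.hom = g'.left ≫ pullback.fst N.hom M.hom := by
    have := hN (Over.homMk (g.left ≫ pullback.fst N.hom M.hom) (by
      rw [Category.assoc]; exact Over.w g)) (Over.homMk (g'.left ≫ pullback.fst N.hom M.hom) (by
      rw [Category.assoc]; exact Over.w g')) (by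
      simp only [Over.homMk_left]; exact congr($h ≫ pullback.fst N.hom M.hom))
    exact congr($(this).left)
  have h2 : g.left ≫ pullback.snd N.hom M.hom = g'.left ≫ pullback.snd N.hom M.hom := by
    have := hM (Over.homMk (g.left ≫ pullback.snd N.hom M.hom) (by
      rw [Category.assoc, ← pullback.condition]; exact Over.w g))
      (Over.homMk (g'.left ≫ pullback.snd N.hom M.hom) (by
      rw [Category.assoc, ← pullback.condition]; exact Over.w g')) (by
      simp only [Over.homMk_left]; exact congr($h ≫ pullback.snd N.hom M.hom))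
    exact congr($(this).left)
  ext1
  exact pullback.hom_ext h1 h2

lemma prod_extAt {Z N M : Over S} (hN : ExtAt U Z N) (hM : ExtAt U Z M) :
    ExtAt U Z (Over.mk (pullback.fst N.hom M.hom ≫ N.hom)) := by
  intro h hh
  have hh' : h ≫ pullback.fst N.hom M.hom ≫ N.hom = (Z.hom ⁻¹ᵁ U).ι ≫ Z.hom := hh
  obtain ⟨a, ha⟩ := hN (h ≫ pullback.fst N.hom M.hom) (by rw [Category.assoc]; exact hh')
  obtain ⟨b, hb⟩ := hM (h ≫ pullback.snd N.hom M.hom) (by
    rw [Category.assoc, ← pullback.condition]; exact hh')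
  refine ⟨Over.homMk (pullback.lift a.left b.left (by rw [Over.w a, Over.w b])) (by
    change _ ≫ pullback.fst N.hom M.hom ≫ N.hom = Z.hom
    rw [pullback.lift_fst_assoc, Over.w a]), ?_⟩
  simp only [Over.homMk_left]
  apply pullback.hom_ext
  · rw [Category.assoc, pullback.lift_fst, ha]
  · rw [Category.assoc, pullback.lift_snd, hb]

/-- Fibre of a morphism over a section. -/
lemma fibre_uniqAt {Z G H : Over S} (hG : UniqAt U Z G) (f : G ⟶ H) (e : S ⟶ H.left)
    (he : e ≫ H.hom = 𝟙 S) :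
    UniqAt U Z (Over.mk (pullback.snd f.left e)) := by
  intro g g' h
  have hc : pullback.fst f.left e ≫ G.hom = pullback.snd f.left e := by
    rw [← Over.w f, pullback.condition_assoc, he, Category.comp_id]
  have h1 : g.left ≫ pullback.fst f.left e = g'.left ≫ pullback.fst f.left e := by
    have := hG (Over.homMk (g.left ≫ pullback.fst f.left e) (by
      rw [Category.assoc, hc]; exact Over.w g)) (Over.homMk (g'.left ≫ pullback.fst f.left e) (by
      rw [Category.assoc, hc]; exact Over.w g')) (by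
      simp only [Over.homMk_left]; exact congr($h ≫ pullback.fst f.left e))
    exact congr($(this).left)
  ext1
  apply pullback.hom_ext h1
  exact (Over.w g).trans (Over.w g').symm

lemma fibre_extAt {Z G H : Over S} (hG : ExtAt U Z G) (hH : UniqAt U Z H) (f : G ⟶ H)
    (e : S ⟶ H.left) (he : e ≫ H.hom = 𝟙 S) :
    ExtAt U Z (Over.mk (pullback.snd f.left e)) := by
  intro h hh
  have hh' : h ≫ pullback.snd f.left e = (Z.hom ⁻¹ᵁ U).ι ≫ Z.hom := hh
  have hc : pullback.fst f.left e ≫ G.hom = pullback.snd f.left e := by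
    rw [← Over.w f, pullback.condition_assoc, he, Category.comp_id]
  obtain ⟨a, ha⟩ := hG (h ≫ pullback.fst f.left e) (by rw [Category.assoc, hc]; exact hh')
  have hw : a.left ≫ f.left = Z.hom ≫ e := by
    have := hH (a ≫ f) (Over.homMk (Z.hom ≫ e) (by rw [Category.assoc, he, Category.comp_id])) (by
      simp only [Over.comp_left, Over.homMk_left]
      rw [reassoc_of% ha, pullback.condition, reassoc_of% hh'])
    exact congr($(this).left)
  refine ⟨Over.homMk (pullback.lift a.left Z.hom hw) (by exact pullback.lift_snd _ _ _), ?_⟩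
  simp only [Over.homMk_left]
  apply pullback.hom_ext
  · rw [Category.assoc, pullback.lift_fst, ha]
  · rw [Category.assoc, pullback.lift_snd, hh']

/-- Composition with an étale `f : S ⟶ T`. -/
lemma comp_etale {T N : Scheme.{u}} (T₀ : T.Opens) (f : S ⟶ T) [Etale f] (g : N ⟶ S)
    (hS : ∀ Z : Over T, Smooth Z.hom → UniqAt T₀ Z (Over.mk f) ∧ ExtAt T₀ Z (Over.mk f))
    (hN : ∀ Z : Over S, Smooth Z.hom → UniqAt (f ⁻¹ᵁ T₀) Z (Over.mk g) ∧ ExtAt (f ⁻¹ᵁ T₀) Z (Over.mk g))
    (Z : Over T) (hZ : Smooth Z.hom) :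
    UniqAt T₀ Z (Over.mk (g ≫ f)) ∧ ExtAt T₀ Z (Over.mk (g ≫ f)) := by
  constructor
  · intro a b hab
    have wa : a.left ≫ g ≫ f = Z.hom := Over.w a
    have wb : b.left ≫ g ≫ f = Z.hom := Over.w b
    have h1 : a.left ≫ g = b.left ≫ g := by
      have := (hS Z hZ).1 (Over.homMk (a.left ≫ g) (by rw [Category.assoc]; exact wa))
        (Over.homMk (b.left ≫ g) (by rw [Category.assoc]; exact wb)) (by
        simp only [Over.homMk_left]; exact congr($hab ≫ g))
      exact congr($(this).left)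
    have : Smooth ((a.left ≫ g) ≫ f) := by rw [Category.assoc, wa]; exact hZ
    have hsm : Smooth (a.left ≫ g) := smooth_of_comp_etale _ f
    have h2 := (hN (Over.mk (a.left ≫ g)) hsm).1 (Over.homMk a.left rfl) (Over.homMk b.left h1.symm) (by
      have he : (Over.mk (a.left ≫ g)).hom ⁻¹ᵁ (f ⁻¹ᵁ T₀) = Z.hom ⁻¹ᵁ T₀ := by
        have h3 : (a.left ≫ g) ≫ f = Z.hom := by rw [Category.assoc]; exact wa
        change (a.left ≫ g) ⁻¹ᵁ f ⁻¹ᵁ T₀ = _
        rw [← Scheme.Hom.comp_preimage, h3]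
      simp only [Over.homMk_left]
      rw [he]
      exact hab)
    ext1
    exact congr($(h2).left)
  · intro h hh
    have hh' : h ≫ g ≫ f = (Z.hom ⁻¹ᵁ T₀).ι ≫ Z.hom := hh
    obtain ⟨q, hq⟩ := (hS Z hZ).2 (h ≫ g) (by rw [Category.assoc]; exact hh')
    have wq : q.left ≫ f = Z.hom := Over.w q
    have : Smooth (q.left ≫ f) := by rw [wq]; exact hZ
    have hsm : Smooth q.left := smooth_of_comp_etale _ f
    have he : q.left ⁻¹ᵁ (f ⁻¹ᵁ T₀) = Z.hom ⁻¹ᵁ T₀ := by
      rw [← Scheme.Hom.comp_preimage, wq]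
    have key : ∀ (V : Z.left.Opens) (h : (V : Scheme.{u}) ⟶ N) (hV : V = q.left ⁻¹ᵁ (f ⁻¹ᵁ T₀))
        (hq : V.ι ≫ q.left = h ≫ g), ∃ b : Z.left ⟶ N, b ≫ g = q.left ∧ V.ι ≫ b = h := by
      intro V h hV hq
      subst hV
      obtain ⟨b, hb⟩ := (hN (Over.mk q.left) hsm).2 h hq.symm
      exact ⟨b.left, Over.w b, hb⟩
    obtain ⟨b, hb1, hb2⟩ := key _ h he.symm hq
    exact ⟨Over.homMk b (by
      change b ≫ g ≫ f = Z.hom
      rw [reassoc_of% hb1, wq]), hb2⟩

end K776.Formal
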