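import Groth.Agent.NeronHD.K776.SmoothLqf
import Groth.Agent.CycB.LocQuot
import Groth.Agent.S2155
import Groth.Agent.Ega4dA.SmoothStalk
import Mathlib.AlgebraicGeometry.Morphisms.FlatMono

/-!
# A morphism from a smooth scheme to a normal quasi-finite scheme, generically in the smooth locus, lands
in the smooth locus
-/

set_option autoImplicit false
universe u
open CategoryTheory CategoryTheory.Limits AlgebraicGeometry

namespace K776.SmLocus

open Groth.Agent

/-- Localization maps between stalks of a scheme are injective if the bigger local ring is a domain. -/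
theorem stalkSpecializes_injective {X : Scheme.{u}} {x ξ : X} (h : ξ ⤳ x)
    [IsDomain (X.presheaf.stalk x)] : Function.Injective (X.presheaf.stalkSpecializes h).hom := by
  algebraize [(X.presheaf.stalkSpecializes h).hom]
  have h1 : IsLocalization.AtPrime (X.presheaf.stalk ξ) (RingHom.ker (Cyc.specMap x ξ h)) :=
    CycB.LocQuot.isLocalization_stalkSpecializes h
  exact IsLocalization.injective (X.presheaf.stalk ξ)
    (Ideal.primeCompl_le_nonZeroDivisors (RingHom.ker (Cyc.specMap x ξ h)))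

/-- A section of `p : P ⟶ Z` through the smooth locus of the locally quasi-finite `p` is a local isomorphism
there. -/
theorem isIso_stalkMap_section {P Z : Scheme.{u}} (p : P ⟶ Z) [LocallyOfFinitePresentation p]
    [LocallyQuasiFinite p] (σ : Z ⟶ P) (hσ : σ ≫ p = 𝟙 Z) (η : Z) (hη : σ η ∈ p.smoothLocus) :
    IsIso (σ.stalkMap η) := by
  let P₀ := p.smoothLocus
  have hsm : Smooth (P₀.ι ≫ p) := by
    rw [← Scheme.Hom.smoothLocus_eq_top_iff, ← Scheme.Hom.preimage_smoothLocus_eq]
    exact P₀.ι_preimage_self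
  have het : Etale (P₀.ι ≫ p) := SmoothLqf.etale_of_smooth_of_locallyQuasiFinite _
  let s : ((σ ⁻¹ᵁ P₀ : Z.Opens) : Scheme.{u}) ⟶ P₀ := σ ∣_ P₀
  have hs : s ≫ P₀.ι = (σ ⁻¹ᵁ P₀).ι ≫ σ := morphismRestrict_ι σ P₀
  have hsp : s ≫ (P₀.ι ≫ p) = (σ ⁻¹ᵁ P₀).ι := by
    rw [reassoc_of% hs, hσ, Category.comp_id]
  have h1 : Etale (s ≫ (P₀.ι ≫ p)) := by rw [hsp]; infer_instance
  have h2 : Etale s := Etale.of_comp s (P₀.ι ≫ p)
  have h3 : Mono (s ≫ (P₀.ι ≫ p)) := by rw [hsp]; infer_instance
  have h4 : Mono s := mono_of_mono s (P₀.ι ≫ p)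
  have h5 : IsOpenImmersion s := IsOpenImmersion.of_flat_of_mono s
  have h6 : IsOpenImmersion ((σ ⁻¹ᵁ P₀).ι ≫ σ) := by rw [← hs]; infer_instance
  let η' : ((σ ⁻¹ᵁ P₀ : Z.Opens) : Scheme.{u}) := ⟨η, hη⟩
  have h7 : IsIso (((σ ⁻¹ᵁ P₀).ι ≫ σ).stalkMap η') := inferInstance
  rw [Scheme.Hom.stalkMap_comp] at h7
  have h8 : IsIso (σ.stalkMap ((σ ⁻¹ᵁ P₀).ι η')) := 
    @IsIso.of_isIso_comp_right _ _ _ _ _ _ ((σ ⁻¹ᵁ P₀).ι.stalkMap η') inferInstance h7
  exact h8

/-- A section of a locally quasi-finite `p : P ⟶ Z`, at a point `x` such that `O_{P, σ x}` is a domain and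
a generization of `x` is mapped in the smooth locus of `p`, lands in the smooth locus. -/
theorem section_mem_smoothLocus {P Z : Scheme.{u}} (p : P ⟶ Z) [LocallyOfFinitePresentation p]
    [LocallyQuasiFinite p] (σ : Z ⟶ P) (hσ : σ ≫ p = 𝟙 Z) (η x : Z) (h : η ⤳ x)
    (hη : σ η ∈ p.smoothLocus) [IsDomain (P.presheaf.stalk (σ x))] : σ x ∈ p.smoothLocus := by
  have h1 := isIso_stalkMap_section p σ hσ η hη
  have hinj : Function.Injective (σ.stalkMap x).hom := by
    intro a b hab
    apply stalkSpecializes_injective (h.map σ.continuous)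
    have hbij : Function.Injective (σ.stalkMap η).hom := (ConcreteCategory.bijective_of_isIso _).1
    apply hbij
    have comm := Scheme.Hom.stalkSpecializes_stalkMap σ η x h
    have ca := congr($comm a)
    have cb := congr($comm b)
    have ca' : (σ.stalkMap η).hom ((P.presheaf.stalkSpecializes (h.map σ.continuous)).hom a) =
      (Z.presheaf.stalkSpecializes h).hom ((σ.stalkMap x).hom a) := ca
    have cb' : (σ.stalkMap η).hom ((P.presheaf.stalkSpecializes (h.map σ.continuous)).hom b) =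
      (Z.presheaf.stalkSpecializes h).hom ((σ.stalkMap x).hom b) := cb
    rw [ca', cb', hab]
  have h2 : IsIso ((σ ≫ p).stalkMap x) := by
    have : IsIso (σ ≫ p) := by rw [hσ]; infer_instance
    infer_instance
  rw [Scheme.Hom.stalkMap_comp] at h2
  have hsurj : Function.Surjective (σ.stalkMap x).hom := by
    have hb := (@ConcreteCategory.bijective_of_isIso _ _ _ _ _ _ _ _ (p.stalkMap (σ x) ≫ σ.stalkMap x) h2).2
    intro b
    obtain ⟨a, ha⟩ := hb b
    exact ⟨(p.stalkMap (σ x)).hom a, ha⟩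
  have h3 : IsIso (σ.stalkMap x) := by
    rw [ConcreteCategory.isIso_iff_bijective]
    exact ⟨hinj, hsurj⟩
  have h4 : IsIso (p.stalkMap (σ x)) := 
    @IsIso.of_isIso_comp_right _ _ _ _ _ _ (σ.stalkMap x) h3 h2
  rw [Scheme.Hom.mem_smoothLocus]
  have hb : Function.Bijective (p.stalkMap (σ x)).hom := ConcreteCategory.bijective_of_isIso _
  exact RingHom.FormallySmooth.of_bijective hb

/-- Let `π : T ⟶ S` be locally quasi-finite, with `T` normal, and `g : Z ⟶ T` a morphism from a smooth `S`-scheme.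
If a generization `η` of `x` maps into the smooth locus of `π`, so does `x`. -/
theorem mem_smoothLocus {S Z T : Scheme.{u}} (π : T ⟶ S) [LocallyOfFinitePresentation π]
    [LocallyQuasiFinite π] (hT : Pi1.IsNormalScheme T) (z : Z ⟶ S) [Smooth z] (g : Z ⟶ T)
    (hg : g ≫ π = z) (η x : Z) (h : η ⤳ x) (hη : g η ∈ π.smoothLocus) : g x ∈ π.smoothLocus := by
  let p : pullback z π ⟶ Z := pullback.fst z π
  let q : pullback z π ⟶ T := pullback.snd z π
  have hpb : IsPullback q p π z := (IsPullback.of_hasPullback z π).flip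
  let σ : Z ⟶ pullback z π := pullback.lift (𝟙 Z) g (by rw [hg, Category.id_comp])
  have hσp : σ ≫ p = 𝟙 Z := pullback.lift_fst _ _ _
  have hσq : σ ≫ q = g := pullback.lift_snd _ _ _
  have : LocallyOfFinitePresentation p := inferInstanceAs (LocallyOfFinitePresentation (pullback.fst z π))
  have : LocallyQuasiFinite p := inferInstanceAs (LocallyQuasiFinite (pullback.fst z π))
  have hq : Smooth q := inferInstanceAs (Smooth (pullback.snd z π))
  have hloc : p.smoothLocus = q ⁻¹ᵁ π.smoothLocus :=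
    S2155.result π z p q hpb (Or.inr inferInstance)
  have hd : IsDomain ((pullback z π).presheaf.stalk (σ x)) :=
    (Ega4dA.SmoothStalk.stalk_of_smooth hT q (σ x)).1
  have hση : σ η ∈ p.smoothLocus := by
    rw [hloc]
    change q (σ η) ∈ π.smoothLocus
    rw [← Scheme.Hom.comp_apply, hσq]
    exact hη
  have h1 := section_mem_smoothLocus p σ hσp η x h hση
  rw [hloc] at h1
  have h2 : q (σ x) ∈ π.smoothLocus := h1
  rwa [← Scheme.Hom.comp_apply, hσq] at h2

end K776.SmLocus
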