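import Groth.Agent.NeronHD.K776.Extend
import Groth.Agent.NeronHD.K776.SmLocus
import Groth.Agent.NeronHD.K776.Formal

/-!
# The smooth locus of a finite morphism from a normal scheme to a normal scheme is a Néron model
-/

set_option autoImplicit false
universe u
open CategoryTheory CategoryTheory.Limits AlgebraicGeometry

namespace K776.FiniteNormal

open Groth.Agent K776.Formal

/-- A dense open of a locally Noetherian scheme contains a generization of each point with integral local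
ring. -/
theorem exists_generization {Z : Scheme.{u}} [IsLocallyNoetherian Z] (V : Z.Opens)
    (hV : Dense (V : Set Z)) (x : Z) [IsDomain (Z.presheaf.stalk x)] : ∃ η : Z, η ⤳ x ∧ η ∈ V := by
  obtain ⟨W, hxW, hW⟩ := S2260.result Z x
  obtain ⟨y, hyW, hyV⟩ := hV.inter_open_nonempty W W.2 ⟨x, hxW⟩
  refine ⟨W.ι (genericPoint (W : Scheme.{u})), ?_, ?_⟩
  · have h1 : genericPoint (W : Scheme.{u}) ⤳ (⟨x, hxW⟩ : (W : Scheme.{u})) :=
      (genericPoint_spec (W : Scheme.{u})).specializes trivial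
    exact h1.map W.ι.continuous
  · have h2 : genericPoint (W : Scheme.{u}) ∈ (W.ι ⁻¹ᵁ V) :=
      ((genericPoint_spec (W : Scheme.{u})).mem_open_set_iff (W.ι ⁻¹ᵁ V).isOpen).mpr
        (by simpa using ⟨(⟨y, hyW⟩ : (W : Scheme.{u})), hyV⟩)
    exact h2

theorem isNormalScheme_of_smooth {X S : Scheme.{u}} (hS : Pi1.IsNormalScheme S) (f : X ⟶ S)
    [Smooth f] : Pi1.IsNormalScheme X := fun x => Ega4dA.SmoothStalk.stalk_of_smooth hS f x

/-- Extension of morphisms from smooth schemes to an integral quasi-finite normal scheme, over a normal base. -/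
theorem exists_extension {S T : Scheme.{u}} [IsLocallyNoetherian S] (hS : Pi1.IsNormalScheme S)
    (π : T ⟶ S) [IsIntegralHom π] [LocallyOfFinitePresentation π] [LocallyQuasiFinite π]
    (hT : Pi1.IsNormalScheme T) (S₀ : S.Opens) (hS₀ : CInt.IsSchematicallyDense S₀)
    (Z : Over S) [Smooth Z.hom] (h : (Z.hom ⁻¹ᵁ S₀ : Scheme.{u}) ⟶ T)
    (hh : h ≫ π = (Z.hom ⁻¹ᵁ S₀).ι ≫ Z.hom) (hsm : ∀ v, h v ∈ π.smoothLocus) :
    ∃ g : Z.left ⟶ T, g ≫ π = Z.hom ∧ (Z.hom ⁻¹ᵁ S₀).ι ≫ g = h ∧ ∀ x, g x ∈ π.smoothLocus := by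
  have hZn := isNormalScheme_of_smooth hS Z.hom
  have hZN : IsLocallyNoetherian Z.left := LocallyOfFiniteType.isLocallyNoetherian Z.hom
  have hV := S3843.result Z.hom S₀ hS₀
  obtain ⟨g, hg1, hg2⟩ := Extend.exists_extension π Z.hom hZn (Z.hom ⁻¹ᵁ S₀) hV h hh
  refine ⟨g, hg1, hg2, fun x => ?_⟩
  have := (hZn x).1
  obtain ⟨η, hηx, hηV⟩ := exists_generization (Z.hom ⁻¹ᵁ S₀) (S3842.dense_of_isSchematicallyDense _ hV) x
  apply SmLocus.mem_smoothLocus π hT Z.hom g hg1 η x hηx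
  have h1 := hsm ⟨η, hηV⟩
  rwa [← hg2] at h1

theorem uniqAt {S : Scheme.{u}} (S₀ : S.Opens) (hS₀ : CInt.IsSchematicallyDense S₀)
    (Z N : Over S) [Smooth Z.hom] [IsSeparated N.hom] : UniqAt S₀ Z N := by
  intro g g' h
  ext1
  exact Ega4dB.SchDense.ext_of_isSchematicallyDense N.hom (by rw [Over.w, Over.w])
    (Z.hom ⁻¹ᵁ S₀) (S3843.result Z.hom S₀ hS₀) h

theorem extAt {S T : Scheme.{u}} [IsLocallyNoetherian S] (hS : Pi1.IsNormalScheme S)
    (π : T ⟶ S) [IsIntegralHom π] [LocallyOfFinitePresentation π] [LocallyQuasiFinite π]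
    (hT : Pi1.IsNormalScheme T) (S₀ : S.Opens) (hS₀ : CInt.IsSchematicallyDense S₀)
    (Z : Over S) [Smooth Z.hom] : ExtAt S₀ Z (Over.mk (π.smoothLocus.ι ≫ π)) := by
  intro h hh
  have hh' : h ≫ π.smoothLocus.ι ≫ π = (Z.hom ⁻¹ᵁ S₀).ι ≫ Z.hom := hh
  obtain ⟨g, hg1, hg2, hg3⟩ := exists_extension hS π hT S₀ hS₀ Z (h ≫ π.smoothLocus.ι)
    (by rw [Category.assoc]; exact hh') (fun v => (h v).2)
  have hr : Set.range g ⊆ Set.range π.smoothLocus.ι := by
    rw [Scheme.Opens.range_ι]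
    rintro _ ⟨x, rfl⟩
    exact hg3 x
  have hl : IsOpenImmersion.lift π.smoothLocus.ι g hr ≫ π.smoothLocus.ι = g :=
    IsOpenImmersion.lift_fac _ _ _
  refine ⟨Over.homMk (IsOpenImmersion.lift π.smoothLocus.ι g hr) ?_, ?_⟩
  · change _ ≫ π.smoothLocus.ι ≫ π = Z.hom
    rw [reassoc_of% hl, hg1]
  · change (Z.hom ⁻¹ᵁ S₀).ι ≫ IsOpenImmersion.lift π.smoothLocus.ι g hr = h
    rw [← cancel_mono π.smoothLocus.ι, Category.assoc, hl, hg2]

end K776.FiniteNormal
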