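import Groth.Agent.NeronHD.K776.SmLocus
import Groth.Agent.NeronHD.K776.FiniteNormal
import Groth.Agent.Ega4B.NormalSep
import Groth.Agent.Fdesc.LocGen

/-!
# Sections of a normal locally Noetherian scheme are integrally closed in the product of the generic stalks
-/

set_option autoImplicit false
universe u
open CategoryTheory CategoryTheory.Limits AlgebraicGeometry

namespace K776.GenInj

open Groth.Agent Groth.Agent.Fdesc.LocGen

variable {X : Scheme.{u}}

/-- `η` has no proper generization. -/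
def IsMin (η : X) : Prop := ∀ y : X, y ⤳ η → y = η

theorem isField_of_isMin {y : X} [IsDomain (X.presheaf.stalk y)] (h : IsMin y) :
    IsField (X.presheaf.stalk y) := by
  have h1 : X.fromSpecStalk y ⟨⊥, Ideal.isPrime_bot⟩ ⤳ y := by
    have : X.fromSpecStalk y ⟨⊥, Ideal.isPrime_bot⟩ ∈ Set.range (X.fromSpecStalk y) := ⟨_, rfl⟩
    rwa [Scheme.range_fromSpecStalk] at this
  have h2 := h _ h1
  have h3 : (⟨⊥, Ideal.isPrime_bot⟩ : PrimeSpectrum (X.presheaf.stalk y)) =
      IsLocalRing.closedPoint (X.presheaf.stalk y) := by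
    apply (X.fromSpecStalk y).isEmbedding.injective
    rw [Scheme.fromSpecStalk_closedPoint]
    exact h2
  rw [IsLocalRing.isField_iff_maximalIdeal_eq]
  exact (congrArg PrimeSpectrum.asIdeal h3).symm

/-- The generic point of an integral open is minimal. -/
theorem isMin_genericPoint (W : X.Opens) [IsIntegral (W : Scheme.{u})] :
    IsMin (W.ι (genericPoint (W : Scheme.{u}))) := by
  intro y hy
  have hyW : y ∈ W := hy.mem_open W.2 (genericPoint (W : Scheme.{u})).2
  have h1 : genericPoint (W : Scheme.{u}) ⤳ (⟨y, hyW⟩ : (W : Scheme.{u})) :=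
    (genericPoint_spec (W : Scheme.{u})).specializes trivial
  exact (hy.antisymm (h1.map W.ι.continuous)).eq

/-- The only minimal point of an integral open is its generic point. -/
theorem eq_of_isMin (W : X.Opens) [IsIntegral (W : Scheme.{u})] {η : X} (hη : IsMin η) (h : η ∈ W) :
    η = W.ι (genericPoint (W : Scheme.{u})) := by
  have h1 : genericPoint (W : Scheme.{u}) ⤳ (⟨η, h⟩ : (W : Scheme.{u})) :=
    (genericPoint_spec (W : Scheme.{u})).specializes trivial
  exact (hη _ (h1.map W.ι.continuous)).symm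

theorem exists_isMin [IsLocallyNoetherian X] (hX : Pi1.IsNormalScheme X) (x : X) :
    ∃ η : X, η ⤳ x ∧ IsMin η := by
  have := (hX x).1
  obtain ⟨W, hxW, hW⟩ := S2260.result X x
  refine ⟨W.ι (genericPoint (W : Scheme.{u})), ?_, isMin_genericPoint W⟩
  have h1 : genericPoint (W : Scheme.{u}) ⤳ (⟨x, hxW⟩ : (W : Scheme.{u})) :=
    (genericPoint_spec (W : Scheme.{u})).specializes trivial
  exact h1.map W.ι.continuous

/-- The germ map. -/
noncomputable def germ (V : X.Opens) (x : X) (hx : x ∈ V) : Γ(X, V) →+* X.presheaf.stalk x :=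
  (X.presheaf.germ V x hx).hom

theorem germ_ores {U V : X.Opens} (h : V ≤ U) (x : X) (hx : x ∈ V) (a : Γ(X, U)) :
    germ V x hx (ores h a) = germ U x (h hx) a := by
  unfold germ ores
  rw [← CommRingCat.comp_apply, X.presheaf.germ_res]

theorem spec_germ {V : X.Opens} {x η : X} (h : η ⤳ x) (hx : x ∈ V) (a : Γ(X, V)) :
    (X.presheaf.stalkSpecializes h).hom (germ V x hx a) = germ V η (h.mem_open V.2 hx) a := by
  unfold germ
  rw [← CommRingCat.comp_apply, X.presheaf.germ_stalkSpecializes]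

/-- The product of the stalks at the minimal points of `V`. -/
abbrev GenProd (V : X.Opens) : Type u := ∀ η : {η : X // η ∈ V ∧ IsMin η}, X.presheaf.stalk η.1

/-- The map to the product of generic stalks. -/
noncomputable def toGen (V : X.Opens) : Γ(X, V) →+* GenProd V :=
  RingHom.pi fun η => germ V η.1 η.2.1

theorem toGen_apply (V : X.Opens) (a : Γ(X, V)) (η : X) (h : η ∈ V) (h' : IsMin η) :
    toGen V a ⟨η, h, h'⟩ = germ V η h a := rfl

theorem eq_of_toGen [IsLocallyNoetherian X] (hX : Pi1.IsNormalScheme X) (V : X.Opens)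
    (a b : Γ(X, V)) (h : ∀ η (h : η ∈ V), IsMin η → germ V η h a = germ V η h b) : a = b := by
  apply TopCat.Presheaf.section_ext X.sheaf V a b
  intro x hx
  obtain ⟨η, hηx, hη⟩ := exists_isMin hX x
  have := (hX x).1
  apply SmLocus.stalkSpecializes_injective hηx
  have h1 := h η (hηx.mem_open V.2 hx) hη
  rw [← spec_germ hηx hx, ← spec_germ hηx hx] at h1
  exact h1

theorem toGen_injective [IsLocallyNoetherian X] (hX : Pi1.IsNormalScheme X) (V : X.Opens) :
    Function.Injective (toGen V) := by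
  intro a b hab
  apply eq_of_toGen hX
  intro η h hη
  exact congrFun hab ⟨η, h, hη⟩

theorem vnr_genProd (hX : Pi1.IsNormalScheme X) (V : X.Opens) : Ega4B.NormalSep.VNR (GenProd V) := by
  intro x
  have key : ∀ η : {η : X // η ∈ V ∧ IsMin η}, ∃ y : X.presheaf.stalk η.1, x η = x η ^ 2 * y := by
    intro η
    have := (hX η.1).1
    have hf := isField_of_isMin (X := X) η.2.2
    by_cases h0 : x η = 0
    · exact ⟨0, by rw [h0]; ring⟩
    · obtain ⟨y, hy⟩ := hf.mul_inv_cancel h0
      exact ⟨y, by rw [pow_two, mul_assoc, hy, mul_one]⟩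
  choose y hy using key
  exact ⟨y, funext hy⟩

/-- Integral elements of the generic stalk over a normal local ring are in the local ring. -/
theorem exists_of_integral (hX : Pi1.IsNormalScheme X) {x η : X} (h : η ⤳ x) (hη : IsMin η)
    (d : X.presheaf.stalk η) (hd : (X.presheaf.stalkSpecializes h).hom.IsIntegralElem d) :
    ∃ a : X.presheaf.stalk x, (X.presheaf.stalkSpecializes h).hom a = d := by
  have h1 := (hX x).1
  have h2 := (hX x).2
  have h3 := (hX η).1
  algebraize [(X.presheaf.stalkSpecializes h).hom]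
  let _ : Field (X.presheaf.stalk η) := (isField_of_isMin hη).toField
  have hloc : IsLocalization.AtPrime (X.presheaf.stalk η) (RingHom.ker (Cyc.specMap x η h)) :=
    CycB.LocQuot.isLocalization_stalkSpecializes h
  have hinj := SmLocus.stalkSpecializes_injective h
  have hfr : IsFractionRing (X.presheaf.stalk x) (X.presheaf.stalk η) := by
    refine IsLocalization.of_le_of_exists_dvd (RingHom.ker (Cyc.specMap x η h)).primeCompl
      (nonZeroDivisors (X.presheaf.stalk x))
      (Ideal.primeCompl_le_nonZeroDivisors (RingHom.ker (Cyc.specMap x η h))) ?_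
    intro n hn
    refine ⟨n, ?_, dvd_rfl⟩
    change n ∉ RingHom.ker (Cyc.specMap x η h)
    rw [CycB.LocQuot.mem_ker_specMap_iff, not_not]
    have hn0 : (X.presheaf.stalkSpecializes h).hom n ≠ 0 := by
      intro h0
      exact nonZeroDivisors.ne_zero hn (hinj (by rw [h0, map_zero]))
    exact IsUnit.mk0 _ hn0
  have hd' : IsIntegral (X.presheaf.stalk x) d := hd
  exact IsIntegrallyClosed.isIntegral_iff.mp hd'

theorem intClosed_toGen [IsLocallyNoetherian X] (hX : Pi1.IsNormalScheme X) (V : X.Opens) :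
    Ega4B.NormalSep.IntClosed (toGen V) := by
  intro d hd
  -- local sections
  have hloc : ∀ x : V, ∃ (W : X.Opens) (_ : W ≤ V) (_ : x.1 ∈ W) (s : Γ(X, W)),
      ∀ η (h : η ∈ V) (hW : η ∈ W) (hη : IsMin η), germ W η hW s = d ⟨η, h, hη⟩ := by
    rintro ⟨x, hxV⟩
    have := (hX x).1
    obtain ⟨W₀, hxW₀, hW₀⟩ := S2260.result X x
    obtain ⟨η, hηx, hη⟩ := exists_isMin hX x
    have hηV := hηx.mem_open V.2 hxV
    obtain ⟨a, ha⟩ := exists_of_integral hX hηx hη (d ⟨η, hηV, hη⟩) (by
      obtain ⟨p, hp, hp0⟩ := hd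
      refine ⟨p.map (germ V x hxV), hp.map _, ?_⟩
      rw [Polynomial.eval₂_map]
      have e : (X.presheaf.stalkSpecializes hηx).hom.comp (germ V x hxV) =
          (Pi.evalRingHom (fun η : {η : X // η ∈ V ∧ IsMin η} => (X.presheaf.stalk η.1 : Type u))
            ⟨η, hηV, hη⟩).comp (toGen V) := by
        ext b
        exact spec_germ hηx hxV b
      rw [e]
      have := congrArg (Pi.evalRingHom (fun η : {η : X // η ∈ V ∧ IsMin η} => (X.presheaf.stalk η.1 : Type u))
            ⟨η, hηV, hη⟩) hp0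
      rw [map_zero, Polynomial.hom_eval₂] at this
      exact this)
    obtain ⟨W₁, hxW₁, s, hs⟩ := X.presheaf.exists_germ_eq a
    refine ⟨W₁ ⊓ (W₀ ⊓ V), inf_le_right.trans inf_le_right, ⟨hxW₁, hxW₀, hxV⟩, ores inf_le_left s, ?_⟩
    intro η' hη'V hη'W hη'
    have e1 : η' = η := by
      rw [eq_of_isMin W₀ hη' hη'W.2.1, eq_of_isMin W₀ hη (hηx.mem_open W₀.2 hxW₀)]
    subst e1
    rw [germ_ores, ← spec_germ hηx hxW₁]
    have hs' : germ W₁ x hxW₁ s = a := hs
    rw [hs', ha]
  choose W hWV hxW s hs using hloc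
  obtain ⟨t, ht⟩ := ores_glue (V := V) W hWV (by
    intro x hx
    exact (le_iSup W ⟨x, hx⟩) (hxW ⟨x, hx⟩)) s (by
    intro i j
    apply eq_of_toGen hX
    intro η h hη
    rw [germ_ores, germ_ores, hs i η (hWV i h.1) h.1 hη, hs j η (hWV i h.1) h.2 hη])
  refine ⟨t, ?_⟩
  funext η
  obtain ⟨η, hηV, hη⟩ := η
  rw [toGen_apply V t η hηV hη, ← germ_ores (hWV ⟨η, hηV⟩) η (hxW ⟨η, hηV⟩), ht]
  exact hs _ η hηV _ hη

end K776.GenInj
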