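import Groth.Agent.S2789
import Mathlib.RingTheory.Smooth.StandardSmoothCotangent
import Mathlib.RingTheory.Etale.Kaehler
import Mathlib.LinearAlgebra.Determinant
import Mathlib.RingTheory.Ideal.KrullsHeightTheorem

/-!
# The non-étale locus of a morphism between smooth algebras of the same relative dimension
is defined by one equation
-/

set_option autoImplicit false
universe u

namespace K776.JacLocus

open KaehlerDifferential TensorProduct

variable {A B C : Type u} [CommRing A] [CommRing B] [CommRing C] [Algebra A B] [Algebra B C]
  [Algebra A C] [IsScalarTower A B C]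

/-- The Jacobian determinant. -/
noncomputable def jac {ι : Type} [Fintype ι] [DecidableEq ι] (b : Module.Basis ι B Ω[B⁄A])
    (c : Module.Basis ι C Ω[C⁄A]) : C :=
  (Matrix.of fun i j => c.repr (KaehlerDifferential.map A A B C (b j)) i).det

theorem map_map' (D : Type u) [CommRing D] [Algebra A D] [Algebra B D] [Algebra C D]
    [IsScalarTower A B D] [IsScalarTower A C D] [IsScalarTower B C D] (x : Ω[B⁄A]) :
    KaehlerDifferential.map A A B D x =
      KaehlerDifferential.map A A C D (KaehlerDifferential.map A A B C x) := by
  have hx : x ∈ Submodule.span B (Set.range (KaehlerDifferential.D A B)) := by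
    rw [KaehlerDifferential.span_range_derivation]; trivial
  induction hx using Submodule.span_induction with
  | mem x hx =>
    obtain ⟨y, rfl⟩ := hx
    rw [KaehlerDifferential.map_D, KaehlerDifferential.map_D, KaehlerDifferential.map_D,
      ← IsScalarTower.algebraMap_apply B C D]
  | zero => simp only [map_zero]
  | add x y _ _ h1 h2 => simp only [map_add, h1, h2]
  | smul a x _ h1 =>
    rw [(KaehlerDifferential.map A A B D).map_smul, (KaehlerDifferential.map A A B C).map_smul, h1,
      ← algebraMap_smul C a (KaehlerDifferential.map A A B C x),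
      (KaehlerDifferential.map A A C D).map_smul, algebraMap_smul]

theorem isEtaleAt_iff [Algebra.FinitePresentation A B] [Algebra.Smooth A C]
    {ι : Type} [Fintype ι] [DecidableEq ι] (b : Module.Basis ι B Ω[B⁄A])
    (c : Module.Basis ι C Ω[C⁄A]) (q : Ideal C) [q.IsPrime] :
    Algebra.IsEtaleAt B q ↔ jac b c ∉ q := by
  have hsm : Algebra.IsSmoothAt A q := Algebra.FormallySmooth.comp A C (Localization.AtPrime q)
  have key := Groth.Agent.S2789.result A B C q
  have h1 : Algebra.IsEtaleAt B q ↔
      Function.Bijective (KaehlerDifferential.mapBaseChange A B (Localization.AtPrime q)) :=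
    ⟨fun h => (key.mp ⟨h, hsm⟩).2, fun h => (key.mpr ⟨hsm, h⟩).1⟩
  rw [h1]
  let Cq := Localization.AtPrime q
  let bq : Module.Basis ι Cq (Cq ⊗[B] Ω[B⁄A]) := Algebra.TensorProduct.basis Cq b
  let cq : Module.Basis ι Cq Ω[Cq⁄A] := c.ofIsLocalizedModule Cq q.primeCompl
    (KaehlerDifferential.map A A C Cq)
  have hM : LinearMap.toMatrix bq cq (KaehlerDifferential.mapBaseChange A B Cq) =
      (Matrix.of fun i j => c.repr (KaehlerDifferential.map A A B C (b j)) i).map (algebraMap C Cq) := by
    ext i j
    rw [LinearMap.toMatrix_apply, Matrix.map_apply, Matrix.of_apply]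
    have h2 : KaehlerDifferential.mapBaseChange A B Cq (bq j) =
        KaehlerDifferential.map A A C Cq (KaehlerDifferential.map A A B C (b j)) := by
      rw [Algebra.TensorProduct.basis_apply, KaehlerDifferential.mapBaseChange_tmul, one_smul]
      exact map_map' Cq (b j)
    rw [h2, Module.Basis.ofIsLocalizedModule_repr_apply]
  have hdet : (LinearMap.toMatrix bq cq (KaehlerDifferential.mapBaseChange A B Cq)).det =
      algebraMap C Cq (jac b c) := by
    rw [hM, jac, RingHom.map_det]
    rfl
  have h3 : jac b c ∉ q ↔ IsUnit (algebraMap C Cq (jac b c)) :=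
    (IsLocalization.AtPrime.isUnit_to_map_iff Cq q (jac b c)).symm
  rw [h3, ← hdet]
  constructor
  · intro h
    exact LinearEquiv.isUnit_det (LinearEquiv.ofBijective _ h) bq cq
  · intro h
    exact (LinearEquiv.ofIsUnitDet h).bijective

/-- The non-étale locus of `C` over `B`, both standard smooth of relative dimension `n` over `A`, is defined
by one equation. -/
theorem exists_jac (A B C : Type u) [CommRing A] [CommRing B] [CommRing C] [Algebra A B] [Algebra B C]
    [Algebra A C] [IsScalarTower A B C] (n : ℕ) [Algebra.IsStandardSmoothOfRelativeDimension n A B]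
    [Algebra.IsStandardSmoothOfRelativeDimension n A C] :
    ∃ δ : C, ∀ (q : Ideal C) [q.IsPrime], Algebra.IsEtaleAt B q ↔ δ ∉ q := by
  by_cases hC : Nontrivial C
  · have hB : Nontrivial B := (algebraMap B C).domain_nontrivial
    have h1 : Algebra.IsStandardSmooth A B := Algebra.IsStandardSmoothOfRelativeDimension.isStandardSmooth n
    have h2 : Algebra.IsStandardSmooth A C := Algebra.IsStandardSmoothOfRelativeDimension.isStandardSmooth n
    have h3 := Algebra.IsStandardSmoothOfRelativeDimension.rank_kaehlerDifferential (R := A) (S := B) n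
    have h4 := Algebra.IsStandardSmoothOfRelativeDimension.rank_kaehlerDifferential (R := A) (S := C) n
    let b : Module.Basis (Fin n) B Ω[B⁄A] := Module.finBasisOfFinrankEq B _ (Module.finrank_eq_of_rank_eq h3)
    let c : Module.Basis (Fin n) C Ω[C⁄A] := Module.finBasisOfFinrankEq C _ (Module.finrank_eq_of_rank_eq h4)
    exact ⟨jac b c, fun q _ => isEtaleAt_iff b c q⟩
  · have : Subsingleton C := not_nontrivial_iff_subsingleton.mp hC
    exact ⟨0, fun q hq => absurd (Subsingleton.elim _ _) hq.ne_top⟩

end K776.JacLocus
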