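import Groth.Agent.NeronHD.K776.NormNormal
import Groth.Agent.Pi1.H384.NormFinRing

/-!
# The normalization of a normal locally Noetherian scheme in a separated quasi-compact étale scheme is finite
-/

set_option autoImplicit false
universe u
open CategoryTheory CategoryTheory.Limits AlgebraicGeometry

namespace K776.NormFin

open Groth.Agent

section ring

variable {A : Type u} [CommRing A]

theorem finite_of_etale [IsDomain A] [IsNoetherianRing A] [IsIntegrallyClosed A]
    (D : Type u) [CommRing D] [Algebra A D] [Algebra.Etale A D] :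
    Module.Finite A (integralClosure A D) := by
  have h1 : IsLocalization.Away (1 : A) A :=
    IsLocalization.away_of_isUnit_of_bijective A isUnit_one Function.bijective_id
  have h2 : IsLocalization.Away (algebraMap A D 1) D := by
    rw [map_one]
    exact IsLocalization.away_of_isUnit_of_bijective D isUnit_one Function.bijective_id
  exact Pi1.H384.NormFinRing.finite_integralClosure (R := A) (D := D) 1 one_ne_zero (Rr := A) (Dr := D)

theorem finite_of_pi [IsNoetherianRing A] {B : Type u} [CommRing B] [Algebra A B] {ι : Type u} [Finite ι]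
    (D : ι → Type u) [∀ i, CommRing (D i)] [∀ i, Algebra A (D i)] (g : ∀ i, B →ₐ[A] D i)
    (hg : ∀ a b : B, (∀ i, g i a = g i b) → a = b)
    (h : ∀ i, Module.Finite A (integralClosure A (D i))) : Module.Finite A (integralClosure A B) := by
  let G : integralClosure A B →ₗ[A] ∀ i, integralClosure A (D i) :=
    LinearMap.pi fun i => ((g i).mapIntegralClosure).toLinearMap
  have hG : Function.Injective G := by
    intro x y hxy
    apply Subtype.ext
    apply hg
    intro i
    exact congrArg Subtype.val (congrFun hxy i)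
  exact Module.Finite.of_injective G hG

end ring

/-- Points of a normal locally Noetherian scheme have affine neighbourhoods with normal Noetherian domains
as rings of sections. -/
theorem exists_normal_affine {Y : Scheme.{u}} [IsLocallyNoetherian Y] (hY : Pi1.IsNormalScheme Y) (y : Y) :
    ∃ U : Y.affineOpens, y ∈ U.1 ∧ IsDomain Γ(Y, U.1) ∧ IsIntegrallyClosed Γ(Y, U.1) := by
  have := (hY y).1
  obtain ⟨W, hyW, hW⟩ := S2260.result Y y
  obtain ⟨U, hU, hyU, hUW⟩ := exists_isAffineOpen_mem_and_subset (x := y) (U := W) hyW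
  have hne : Nonempty (U : Scheme.{u}) := ⟨⟨y, hyU⟩⟩
  have hUW' : U ≤ W := hUW
  have hint : IsIntegral (U : Scheme.{u}) := isIntegral_of_isOpenImmersion (Y.homOfLE hUW')
  have hdom : IsDomain Γ(Y, U) := by
    have h1 : IsDomain Γ((U : Scheme.{u}), ⊤) := inferInstance
    exact (U.topIso.commRingCatIsoToRingEquiv.symm.toMulEquiv).isDomain _
  refine ⟨⟨U, hU⟩, hyU, hdom, ?_⟩
  have h1 (P : Ideal Γ(Y, U)) [hP : P.IsPrime] : IsIntegrallyClosed (Localization.AtPrime P) := by
    let y : Spec Γ(Y, U) := ⟨P, hP⟩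
    have hy : hU.fromSpec y ∈ U := by
      rw [← SetLike.mem_coe, ← hU.range_fromSpec]; exact ⟨y, rfl⟩
    let := TopCat.Presheaf.algebra_section_stalk Y.presheaf ⟨hU.fromSpec y, hy⟩
    have : IsLocalization P.primeCompl (Y.presheaf.stalk (hU.fromSpec y)) :=
      hU.isLocalization_stalk' y hy
    have h2 := (hY (hU.fromSpec y)).2
    exact .of_equiv (IsLocalization.algEquiv P.primeCompl (Y.presheaf.stalk (hU.fromSpec y))
      (Localization.AtPrime P)).toRingEquiv
  apply IsIntegrallyClosed.of_localization_maximal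
  intro P _ hP
  exact h1 P

theorem finite_integralClosure_app {X Y : Scheme.{u}} (f : X ⟶ Y) [QuasiCompact f] [Etale f]
    [IsLocallyNoetherian Y] {U : Y.Opens} (hU : IsAffineOpen U) [IsDomain Γ(Y, U)]
    [IsIntegrallyClosed Γ(Y, U)] :
    letI := (f.app U).hom.toAlgebra
    Module.Finite Γ(Y, U) (integralClosure Γ(Y, U) Γ(X, f ⁻¹ᵁ U)) := by
  have hN : IsNoetherianRing Γ(Y, U) := IsLocallyNoetherian.component_noetherian ⟨U, hU⟩
  have hc : IsCompact (f ⁻¹ᵁ U : Set X) := QuasiCompact.isCompact_preimage _ U.2 hU.isCompact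
  obtain ⟨s, hs, hsU⟩ := isCompact_iff_finite_and_eq_biUnion_affineOpens.mp hc
  have hle : ∀ i : s, i.1.1 ≤ f ⁻¹ᵁ U := by
    intro i
    rw [hsU]
    exact le_iSup₂ (f := fun (i : X.affineOpens) (_ : i ∈ s) => (i : X.Opens)) i.1 i.2
  have hfin : Finite s := hs
  let _ : Algebra Γ(Y, U) Γ(X, f ⁻¹ᵁ U) := (f.app U).hom.toAlgebra
  let _ : ∀ i : s, Algebra Γ(Y, U) Γ(X, i.1.1) := fun i => (f.appLE U i.1.1 (hle i)).hom.toAlgebra
  have het : ∀ i : s, Algebra.Etale Γ(Y, U) Γ(X, i.1.1) := fun i =>
    Etale.etale_appLE f hU i.1.2 (hle i)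
  let g : ∀ i : s, Γ(X, f ⁻¹ᵁ U) →ₐ[Γ(Y, U)] Γ(X, i.1.1) := fun i =>
    { toRingHom := (X.presheaf.map (homOfLE (hle i)).op).hom
      commutes' := by
        intro r
        have h1 : f.app U ≫ X.presheaf.map (homOfLE (hle i)).op = f.appLE U i.1.1 (hle i) := by
          rw [Scheme.Hom.appLE]
        exact congrArg (fun φ => φ.hom r) h1 }
  refine finite_of_pi (fun i : s => Γ(X, i.1.1)) g ?_ (fun i => finite_of_etale _)
  intro a b hab
  refine Fdesc.LocGen.ores_ext (V := f ⁻¹ᵁ U) (fun i : s => i.1.1) hle ?_ (fun i => hab i)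
  rw [hsU]
  exact iSup₂_le fun i hi => le_iSup (fun i : s => (i.1.1 : X.Opens)) ⟨i, hi⟩

set_option backward.isDefEq.respectTransparency.types false in
/-- The normalization of a normal locally Noetherian scheme in a quasi-compact quasi-separated étale scheme is
finite. -/
theorem isFinite_fromNormalization {X Y : Scheme.{u}} (f : X ⟶ Y) [QuasiCompact f] [QuasiSeparated f]
    [Etale f] [IsLocallyNoetherian Y] (hY : Pi1.IsNormalScheme Y) : IsFinite f.fromNormalization := by
  choose U hyU hdom hic using exists_normal_affine hY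
  rw [HasAffineProperty.iff_of_iSup_eq_top (P := @IsFinite) U ?_]
  · intro y
    refine ⟨(U y).2.preimage f.fromNormalization, ?_⟩
    rw [morphismRestrict_appTop]
    have h1 := hdom y
    have h2 := hic y
    have h3 : (f.fromNormalization.app (U y).1).hom.Finite := by
      algebraize [(f.app (U y).1).hom]
      have h := finite_integralClosure_app f (U y).2
      rw [Scheme.Hom.fromNormalization_app _ (U y).2]
      exact RingHom.finite_respectsIso.1 _ (f.normalizationObjIso (U y).2).symm.commRingCatIsoToRingEquiv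
        (RingHom.finite_algebraMap.mpr h)
    have e2 : (U y).1.ι ''ᵁ ⊤ = (U y).1 := Scheme.Opens.ι_image_top _
    have h4 : (f.fromNormalization.app ((U y).1.ι ''ᵁ ⊤)).hom.Finite := by rw [e2]; exact h3
    exact (RingHom.finite_respectsIso.cancel_right_isIso _ _).mpr h4
  · rw [eq_top_iff]
    intro y _
    exact (le_iSup (fun y => ((U y).1 : Y.Opens)) y) (hyU y)

end K776.NormFin
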