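import Groth.Agent.NeronHD.K776.FiniteNormal
import Groth.Agent.NeronHD.K776.NormFin
import Mathlib.AlgebraicGeometry.ZariskisMainTheorem

/-!
# Néron models of étale schemes over normal schemes

`exists_neron` : the biggest open `N` of the smooth locus of a finite normal `S`-scheme `T` restricting to a
given open over `S₀` is a Néron model.
-/

set_option autoImplicit false
universe u
open CategoryTheory CategoryTheory.Limits AlgebraicGeometry TopologicalSpace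

namespace K776.NeronCons

open Groth.Agent K776.Formal

variable {S T X : Scheme.{u}}

/-- The bad set. -/
def bad (π : T ⟶ S) [LocallyOfFinitePresentation π] (S₀ : S.Opens) (V₀ : T.Opens) : Set T :=
  {t | t ∈ π.smoothLocus ∧ π t ∈ S₀ ∧ t ∉ V₀}

/-- The underlying open of the Néron model. -/
def neronOpen (π : T ⟶ S) [LocallyOfFinitePresentation π] (S₀ : S.Opens) (V₀ : T.Opens) : T.Opens :=
  ⟨(π.smoothLocus : Set T) ∩ (closure (bad π S₀ V₀))ᶜ, π.smoothLocus.2.inter isClosed_closure.isOpen_compl⟩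

theorem mem_neronOpen (π : T ⟶ S) [LocallyOfFinitePresentation π] (S₀ : S.Opens) (V₀ : T.Opens) (t : T) :
    t ∈ neronOpen π S₀ V₀ ↔ t ∈ π.smoothLocus ∧ t ∉ closure (bad π S₀ V₀) := Iff.rfl

theorem mem_neronOpen_iff_of_mem (π : T ⟶ S) [LocallyOfFinitePresentation π] (S₀ : S.Opens) (V₀ : T.Opens)
    (hV₀ : V₀ ≤ π.smoothLocus) (t : T) (ht : π t ∈ S₀) : t ∈ neronOpen π S₀ V₀ ↔ t ∈ V₀ := by
  rw [mem_neronOpen]
  constructor
  · rintro ⟨h1, h2⟩
    by_contra h3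
    exact h2 (subset_closure ⟨h1, ht, h3⟩)
  · intro h
    refine ⟨hV₀ h, fun h2 => ?_⟩
    rw [mem_closure_iff] at h2
    obtain ⟨y, hy1, hy2⟩ := h2 V₀ V₀.2 h
    exact hy2.2.2 hy1

theorem neronOpen_le (π : T ⟶ S) [LocallyOfFinitePresentation π] (S₀ : S.Opens) (V₀ : T.Opens) :
    neronOpen π S₀ V₀ ≤ π.smoothLocus := fun _ h => h.1

theorem smooth_of_le (π : T ⟶ S) [LocallyOfFinitePresentation π] (U : T.Opens)
    (hU : U ≤ π.smoothLocus) : Smooth (U.ι ≫ π) := by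
  rw [← Scheme.Hom.smoothLocus_eq_top_iff, ← Scheme.Hom.preimage_smoothLocus_eq, eq_top_iff]
  intro x _
  exact hU x.2

theorem etale_of_le (π : T ⟶ S) [LocallyOfFinitePresentation π] [LocallyQuasiFinite π] (U : T.Opens)
    (hU : U ≤ π.smoothLocus) : Etale (U.ι ≫ π) := by
  have := smooth_of_le π U hU
  exact SmoothLqf.etale_of_smooth_of_locallyQuasiFinite _

theorem range_le_smoothLocus (π : T ⟶ S) [LocallyOfFinitePresentation π] (j : X ⟶ T) [IsOpenImmersion j]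
    [Smooth (j ≫ π)] : j.opensRange ≤ π.smoothLocus := by
  rintro _ ⟨x, rfl⟩
  have h1 := Scheme.Hom.preimage_smoothLocus_eq j π
  rw [Scheme.Hom.smoothLocus_eq_top (j ≫ π)] at h1
  have : x ∈ j ⁻¹ᵁ π.smoothLocus := by rw [h1]; trivial
  exact this

theorem extAt [IsLocallyNoetherian S] (hS : Pi1.IsNormalScheme S)
    (π : T ⟶ S) [IsIntegralHom π] [LocallyOfFinitePresentation π] [LocallyQuasiFinite π]
    (hT : Pi1.IsNormalScheme T) (S₀ : S.Opens) (hS₀ : CInt.IsSchematicallyDense S₀)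
    (V₀ : T.Opens) (hV₀ : V₀ ≤ π.smoothLocus)
    (Z : Over S) [Smooth Z.hom] : ExtAt S₀ Z (Over.mk ((neronOpen π S₀ V₀).ι ≫ π)) := by
  intro h hh
  let N := neronOpen π S₀ V₀
  have hh' : h ≫ N.ι ≫ π = (Z.hom ⁻¹ᵁ S₀).ι ≫ Z.hom := hh
  obtain ⟨g, hg1, hg2, hg3⟩ := FiniteNormal.exists_extension hS π hT S₀ hS₀ Z (h ≫ N.ι)
    (by rw [Category.assoc]; exact hh') (fun v => (h v).2.1)
  -- `g` lands in the smooth locus, hence is open
  have hr : Set.range g ⊆ Set.range π.smoothLocus.ι := by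
    rw [Scheme.Opens.range_ι]
    rintro _ ⟨x, rfl⟩
    exact hg3 x
  let g' : Z.left ⟶ π.smoothLocus := IsOpenImmersion.lift π.smoothLocus.ι g hr
  have hl : g' ≫ π.smoothLocus.ι = g := IsOpenImmersion.lift_fac _ _ _
  have he : Etale (π.smoothLocus.ι ≫ π) := etale_of_le π _ le_rfl
  have hs : Smooth (g' ≫ π.smoothLocus.ι ≫ π) := by
    rw [reassoc_of% hl, hg1]; infer_instance
  have hs' : Smooth g' := smooth_of_comp_etale g' (π.smoothLocus.ι ≫ π)
  have hs2 : Smooth (g' ≫ π.smoothLocus.ι) := inferInstance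
  have hs3 : Smooth g := by rwa [hl] at hs2
  have hop : IsOpenMap g := g.isOpenMap
  have hgN : ∀ x, g x ∈ N := by
    intro x
    refine ⟨hg3 x, fun hx => ?_⟩
    have h1 : x ∈ g ⁻¹' closure (bad π S₀ V₀) := hx
    rw [hop.preimage_closure_eq_closure_preimage g.continuous] at h1
    have h2 : g ⁻¹' (bad π S₀ V₀) = ∅ := by
      rw [Set.eq_empty_iff_forall_notMem]
      rintro z ⟨-, hz2, hz3⟩
      have hz : z ∈ Z.hom ⁻¹ᵁ S₀ := by
        change Z.hom z ∈ S₀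
        rw [← hg1]
        exact hz2
      have h4 : ∀ z' : (Z.hom ⁻¹ᵁ S₀ : Scheme.{u}), ((Z.hom ⁻¹ᵁ S₀).ι ≫ g) z' ∈ N := by
        intro z'
        rw [hg2]
        exact (h z').2
      have h5 : g z ∈ N := h4 ⟨z, hz⟩
      exact hz3 ((mem_neronOpen_iff_of_mem π S₀ V₀ hV₀ (g z) hz2).mp h5)
    rw [h2, closure_empty] at h1
    exact h1
  have hr2 : Set.range g ⊆ Set.range N.ι := by
    rw [Scheme.Opens.range_ι]
    rintro _ ⟨x, rfl⟩
    exact hgN x
  have hl2 : IsOpenImmersion.lift N.ι g hr2 ≫ N.ι = g := IsOpenImmersion.lift_fac _ _ _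
  refine ⟨Over.homMk (IsOpenImmersion.lift N.ι g hr2) ?_, ?_⟩
  · change _ ≫ N.ι ≫ π = Z.hom
    rw [reassoc_of% hl2, hg1]
  · change (Z.hom ⁻¹ᵁ S₀).ι ≫ IsOpenImmersion.lift N.ι g hr2 = h
    rw [← cancel_mono N.ι, Category.assoc, hl2, hg2]

/-- The restriction over `S₀`. -/
theorem exists_iso (π : T ⟶ S) [LocallyOfFinitePresentation π] (S₀ : S.Opens) (j : X ⟶ T)
    [IsOpenImmersion j] (p₀ : X ⟶ S₀) (hj : j ≫ π = p₀ ≫ S₀.ι) [Smooth (j ≫ π)] :
    Nonempty ((Over.pullback S₀.ι).obj (Over.mk ((neronOpen π S₀ j.opensRange).ι ≫ π)) ≅ Over.mk p₀) := by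
  let N := neronOpen π S₀ j.opensRange
  have hV := range_le_smoothLocus π j
  have hjS : ∀ x, π (j x) ∈ S₀ := by
    intro x
    rw [← Scheme.Hom.comp_apply, hj]
    exact (p₀ x).2
  have hr : Set.range j ⊆ Set.range N.ι := by
    rw [Scheme.Opens.range_ι]
    rintro _ ⟨x, rfl⟩
    exact (mem_neronOpen_iff_of_mem π S₀ _ hV (j x) (hjS x)).mpr ⟨x, rfl⟩
  let k : X ⟶ N := IsOpenImmersion.lift N.ι j hr
  have hk : k ≫ N.ι = j := IsOpenImmersion.lift_fac _ _ _
  have hki : IsOpenImmersion (k ≫ N.ι) := by rw [hk]; infer_instance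
  have hk2 : IsOpenImmersion k := IsOpenImmersion.of_comp k N.ι
  have hrange : Set.range k = Set.range (pullback.fst (N.ι ≫ π) S₀.ι) := by
    rw [Scheme.Pullback.range_fst, Scheme.Opens.range_ι]
    ext t
    constructor
    · rintro ⟨x, rfl⟩
      change (N.ι ≫ π) (k x) ∈ S₀
      rw [← Scheme.Hom.comp_apply, reassoc_of% hk]
      exact hjS x
    · intro ht
      have h1 : π (N.ι t) ∈ S₀ := ht
      obtain ⟨x, hx⟩ := (mem_neronOpen_iff_of_mem π S₀ _ hV (N.ι t) h1).mp t.2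
      refine ⟨x, ?_⟩
      apply N.ι.isOpenEmbedding.injective
      rw [← Scheme.Hom.comp_apply, hk]
      exact hx
  let i := IsOpenImmersion.isoOfRangeEq (pullback.fst (N.ι ≫ π) S₀.ι) k hrange.symm
  have hi : i.hom ≫ k = pullback.fst (N.ι ≫ π) S₀.ι := IsOpenImmersion.isoOfRangeEq_hom_fac _ _ _
  refine ⟨Over.isoMk i ?_⟩
  change i.hom ≫ p₀ = pullback.snd (N.ι ≫ π) S₀.ι
  rw [← cancel_mono S₀.ι, Category.assoc, ← hj, ← pullback.condition, ← hi, Category.assoc, reassoc_of% hk]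

theorem exists_neron [IsLocallyNoetherian S] (hS : Pi1.IsNormalScheme S)
    (π : T ⟶ S) [IsIntegralHom π] [LocallyOfFinitePresentation π] [LocallyQuasiFinite π]
    (hT : Pi1.IsNormalScheme T) (S₀ : S.Opens) (hS₀ : CInt.IsSchematicallyDense S₀)
    (N₀ : Over (S₀ : Scheme.{u})) (j : N₀.left ⟶ T) [IsOpenImmersion j] (hj : j ≫ π = N₀.hom ≫ S₀.ι)
    [Etale N₀.hom] :
    ∃ (N : Over S) (_ : (Over.pullback S₀.ι).obj N ≅ N₀), Etale N.hom ∧ IsSeparated N.hom ∧ QuasiCompact N.hom ∧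
      ∀ Z : Over S, Smooth Z.hom → Function.Bijective (fun g : Z ⟶ N => (Over.pullback S₀.ι).map g) := by
  have hsm : Smooth (j ≫ π) := by rw [hj]; infer_instance
  obtain ⟨e⟩ := exists_iso π S₀ j N₀.hom hj
  have hV := range_le_smoothLocus π j
  have hTN : IsLocallyNoetherian T := LocallyOfFiniteType.isLocallyNoetherian π
  have het : Etale ((neronOpen π S₀ j.opensRange).ι ≫ π) := etale_of_le π _ (neronOpen_le _ _ _)
  have hsep : IsSeparated ((neronOpen π S₀ j.opensRange).ι ≫ π) := inferInstance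
  have hqc : QuasiCompact ((neronOpen π S₀ j.opensRange).ι ≫ π) := inferInstance
  refine ⟨Over.mk ((neronOpen π S₀ j.opensRange).ι ≫ π), e, het, hsep, hqc, fun Z hZ => ?_⟩
  rw [bij_iff]
  have : IsSeparated (Over.mk ((neronOpen π S₀ j.opensRange).ι ≫ π)).hom := hsep
  exact ⟨FiniteNormal.uniqAt S₀ hS₀ Z _, extAt hS π hT S₀ hS₀ _ hV Z⟩

end K776.NeronCons
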