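import Groth.Agent.NeronHD.K776.GenInj
import Groth.Agent.CurvesA.NormFinite

/-!
# The normalization of a scheme in a normal locally Noetherian scheme is normal
-/

set_option autoImplicit false
universe u
open CategoryTheory CategoryTheory.Limits AlgebraicGeometry

namespace K776.NormNormal

open Groth.Agent K776.GenInj

theorem isNormal_of_localization {R A : Type u} [CommRing R] [CommRing A] [Algebra R A]
    (h : ∀ (p : Ideal R) [p.IsPrime], IsDomain (Localization.AtPrime p) ∧
      IsIntegrallyClosed (Localization.AtPrime p))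
    (q : Ideal R) [q.IsPrime] [IsLocalization.AtPrime A q] : IsDomain A ∧ IsIntegrallyClosed A := by
  let e : Localization.AtPrime q ≃ₐ[R] A := IsLocalization.algEquiv q.primeCompl _ _
  have h1 := (h q).1
  have h2 := (h q).2
  exact ⟨e.symm.toRingEquiv.toMulEquiv.isDomain _, IsIntegrallyClosed.of_equiv e.toRingEquiv⟩

/-- The normalization of a scheme in a normal locally Noetherian scheme is normal. -/
theorem isNormalScheme_normalization {X Y : Scheme.{u}} (f : X ⟶ Y) [QuasiCompact f] [QuasiSeparated f]
    [IsLocallyNoetherian X] (hX : Pi1.IsNormalScheme X) : Pi1.IsNormalScheme f.normalization := by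
  intro z
  obtain ⟨U, hU, hzU, -⟩ := exists_isAffineOpen_mem_and_subset
    (x := f.fromNormalization z) (U := ⊤) trivial
  let V := f.fromNormalization ⁻¹ᵁ U
  have hV : IsAffineOpen V := hU.preimage _
  have hzV : z ∈ V := hzU
  let a1 : Algebra Γ(f.normalization, V) Γ(X, f.toNormalization ⁻¹ᵁ V) :=
    (f.toNormalization.app V).hom.toAlgebra
  have h2 : IsIntegrallyClosedIn Γ(f.normalization, V) Γ(X, f.toNormalization ⁻¹ᵁ V) :=
    CurvesA.NormFinite.isIntegrallyClosedIn_toNormalization f U hU
  obtain ⟨h3, h4⟩ := isIntegrallyClosedIn_iff.1 h2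
  let g : Γ(f.normalization, V) →+* GenProd (f.toNormalization ⁻¹ᵁ V) :=
    (toGen (f.toNormalization ⁻¹ᵁ V)).comp (algebraMap _ _)
  have hg : Function.Injective g := (toGen_injective hX _).comp h3
  have hI : Ega4B.NormalSep.IntClosed g := by
    intro d hd
    obtain ⟨p, hp, hp0⟩ := hd
    obtain ⟨t, rfl⟩ := intClosed_toGen hX (f.toNormalization ⁻¹ᵁ V) d
      ⟨p.map (algebraMap _ _), hp.map _, by rw [Polynomial.eval₂_map]; exact hp0⟩
    obtain ⟨c, hc⟩ := h4 (x := t) ⟨p, hp, by
      apply toGen_injective hX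
      rw [map_zero, Polynomial.hom_eval₂]
      exact hp0⟩
    exact ⟨c, congrArg (toGen _) hc⟩
  have hN := fun (p : Ideal Γ(f.normalization, V)) [p.IsPrime] =>
    Ega4B.NormalSep.isNormalRing_of_vnr g hg hI (vnr_genProd hX _) p
  let _ := TopCat.Presheaf.algebra_section_stalk f.normalization.presheaf ⟨z, hzV⟩
  have h6 := hV.isLocalization_stalk ⟨z, hzV⟩
  exact isNormal_of_localization hN (hV.primeIdealOf ⟨z, hzV⟩).asIdeal

end K776.NormNormal
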