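import Groth.Agent.NeronHD.K776.Res
import Groth.Agent.NeronHD.K776.EtaleDense
import Groth.Agent.S3842
import Groth.Agent.S3843
import Groth.Agent.Ega4dB.SchDense
import Mathlib.AlgebraicGeometry.Morphisms.FlatMono

/-!
# A separated étale extension maps to the Néron model by an open immersion
-/

set_option autoImplicit false
universe u
open CategoryTheory CategoryTheory.Limits AlgebraicGeometry

namespace K776.OpenImm

open K776.Basic K776.Formal K776.Res Groth.Agent

/-- The restriction over `U` of an `S`-scheme which is étale over `U` is étale over `S`. -/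
lemma etale_ι_comp {S : Scheme.{u}} (U : S.Opens) (N : Over S)
    [h : Etale ((Over.pullback U.ι).obj N).hom] : Etale ((N.hom ⁻¹ᵁ U).ι ≫ N.hom) := by
  have h' : Etale (pullback.snd N.hom U.ι) := h
  rw [← resIso_inv_fst, Category.assoc, pullback.condition]
  infer_instance

/-- A smooth `S`-scheme which is étale over a schematically dense open is étale. -/
theorem etale_of_restrict {S : Scheme.{u}} (U : S.Opens) (hU : CInt.IsSchematicallyDense U)
    (N : Over S) [Smooth N.hom] [h : Etale ((Over.pullback U.ι).obj N).hom] : Etale N.hom := by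
  apply EtaleDense.etale_of_dense N.hom (N.hom ⁻¹ᵁ U)
  · exact S3842.dense_of_isSchematicallyDense _ (S3843.result N.hom U hU)
  · exact etale_ι_comp U N

/-- Two morphisms `Z ⟶ M` which agree after composition with `φ : M ⟶ N`, `φ` separated and a monomorphism
over the open `U`, `Z` flat and locally of finite presentation over `S`, are equal. -/
theorem eq_of_restrict {S : Scheme.{u}} (U : S.Opens) (hU : CInt.IsSchematicallyDense U)
    {M N : Over S} (φ : M ⟶ N) [IsSeparated φ.left] [IsIso ((Over.pullback U.ι).map φ)]
    (Z : Over S) [Flat Z.hom] [LocallyOfFinitePresentation Z.hom] (a b : Z ⟶ M)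
    (h : a ≫ φ = b ≫ φ) : a = b := by
  have h1 : (Over.pullback U.ι).map a = (Over.pullback U.ι).map b := by
    rw [← cancel_mono ((Over.pullback U.ι).map φ), ← Functor.map_comp, ← Functor.map_comp, h]
  rw [map_eq_iff'] at h1
  ext1
  exact Ega4dB.SchDense.ext_of_isSchematicallyDense φ.left congr($(h).left)
    (Z.hom ⁻¹ᵁ U) (S3843.result Z.hom U hU) h1

theorem isOpenImmersion {S : Scheme.{u}} (U : S.Opens) (hU : CInt.IsSchematicallyDense U)
    {M N : Over S} (φ : M ⟶ N) [Etale φ.left] [IsSeparated φ.left] [Etale M.hom]
    [IsIso ((Over.pullback U.ι).map φ)] : IsOpenImmersion φ.left := by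
  let P : Over S := Over.mk (pullback.fst φ.left φ.left ≫ M.hom)
  have hP : Etale P.hom := inferInstanceAs (Etale (pullback.fst φ.left φ.left ≫ M.hom))
  let a : P ⟶ M := Over.homMk (pullback.fst φ.left φ.left) rfl
  let b : P ⟶ M := Over.homMk (pullback.snd φ.left φ.left) (by
    change _ = pullback.fst φ.left φ.left ≫ M.hom
    rw [← Over.w φ, pullback.condition_assoc])
  have hab : a ≫ φ = b ≫ φ := by
    ext1; exact pullback.condition
  have h1 := eq_of_restrict U hU φ P a b hab
  have h2 : pullback.fst φ.left φ.left = pullback.snd φ.left φ.left := congr($(h1).left)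
  have : Mono φ.left := by
    refine ⟨fun x y hxy => ?_⟩
    have := congr(pullback.lift x y hxy ≫ $h2)
    rwa [pullback.lift_fst, pullback.lift_snd] at this
  exact IsOpenImmersion.of_flat_of_mono φ.left

end K776.OpenImm
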