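import Groth.Agent.NeronHD.K776.Basic
import Mathlib.CategoryTheory.Adjunction.Basic

/-!
# Restriction in two steps `S₀ ⊆ S₁ ⊆ S`
-/

set_option autoImplicit false
universe u v w v₁ v₂ u₁ u₂
open CategoryTheory CategoryTheory.Limits AlgebraicGeometry

namespace K776.Opens

/-- Bijectivity on a hom-set only depends on the functor up to isomorphism. -/
lemma bijective_map_iff_of_iso {C : Type u₁} [Category.{v₁} C] {D : Type u₂} [Category.{v₂} D]
    {F G : C ⥤ D} (α : F ≅ G) (X Y : C) :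
    Function.Bijective (fun g : X ⟶ Y => F.map g) ↔ Function.Bijective (fun g : X ⟶ Y => G.map g) := by
  have h : (fun g : X ⟶ Y => G.map g) =
      (fun k : F.obj X ⟶ F.obj Y => α.inv.app X ≫ k ≫ α.hom.app Y) ∘ (fun g : X ⟶ Y => F.map g) := by
    funext g
    simp
  rw [h]
  have hb : Function.Bijective (fun k : F.obj X ⟶ F.obj Y => α.inv.app X ≫ k ≫ α.hom.app Y) := by
    constructor
    · intro a b hab
      simpa using hab
    · intro b
      exact ⟨α.hom.app X ≫ b ≫ α.inv.app Y, by simp⟩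
  exact (Function.Bijective.of_comp_iff' hb _).symm

lemma bijective_map_comp_iff {C : Type u₁} [Category.{v₁} C] {D : Type u₂} [Category.{v₂} D]
    {E : Type w} [Category.{v} E]
    (F : C ⥤ D) (G : D ⥤ E) [G.Full] [G.Faithful] (X Y : C) :
    Function.Bijective (fun g : X ⟶ Y => (F ⋙ G).map g) ↔
      Function.Bijective (fun g : X ⟶ Y => F.map g) := by
  have h : (fun g : X ⟶ Y => (F ⋙ G).map g) =
      (fun k : F.obj X ⟶ F.obj Y => G.map k) ∘ (fun g : X ⟶ Y => F.map g) := rfl
  rw [h]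
  exact Function.Bijective.of_comp_iff' ⟨G.map_injective, G.map_surjective⟩ _

variable {S : Scheme.{u}}

/-- Pulling back along an isomorphism is an equivalence. -/
lemma isEquivalence_pullback {T S : Scheme.{u}} (e : T ⟶ S) [IsIso e] :
    (Over.pullback e).IsEquivalence :=
  (Over.mapPullbackAdj e).isEquivalence_right_of_isEquivalence_left

/-- Two open immersions with the same range give the same condition. -/
lemma bijective_iff_of_range_eq {T T' : Scheme.{u}} (j : T ⟶ S) (j' : T' ⟶ S) [IsOpenImmersion j]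
    [IsOpenImmersion j'] (h : Set.range j = Set.range j') (Z N : Over S) :
    Function.Bijective (fun g : Z ⟶ N => (Over.pullback j).map g) ↔
      Function.Bijective (fun g : Z ⟶ N => (Over.pullback j').map g) := by
  obtain ⟨e, he⟩ : ∃ e : T ≅ T', e.hom ≫ j' = j :=
    ⟨IsOpenImmersion.isoOfRangeEq j j' h, IsOpenImmersion.isoOfRangeEq_hom_fac j j' h⟩
  subst he
  rw [bijective_map_iff_of_iso (Over.pullbackComp e.hom j') Z N]
  have := isEquivalence_pullback e.hom
  exact bijective_map_comp_iff _ _ Z N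

/-- Restriction to `S₀` in two steps. -/
lemma bijective_iff_comp {S₀ S₁ : S.Opens} (h01 : S₀ ≤ S₁) (Z N : Over S) :
    Function.Bijective (fun g : Z ⟶ N => (Over.pullback S₀.ι).map g) ↔
      Function.Bijective (fun g : Z ⟶ N =>
        (Over.pullback (S₁.ι ⁻¹ᵁ S₀).ι).map ((Over.pullback S₁.ι).map g)) := by
  have hr : Set.range S₀.ι = Set.range ((S₁.ι ⁻¹ᵁ S₀).ι ≫ S₁.ι) := by
    ext x
    simp only [Scheme.Opens.range_ι, SetLike.mem_coe, Set.mem_range]
    constructor
    · intro hx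
      exact ⟨⟨⟨x, h01 hx⟩, hx⟩, rfl⟩
    · rintro ⟨⟨⟨y, hy⟩, hy'⟩, rfl⟩
      exact hy'
  rw [bijective_iff_of_range_eq S₀.ι ((S₁.ι ⁻¹ᵁ S₀).ι ≫ S₁.ι) hr Z N,
    bijective_map_iff_of_iso (Over.pullbackComp (S₁.ι ⁻¹ᵁ S₀).ι S₁.ι) Z N]
  rfl

end K776.Opens
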