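import Groth.Agent.NeronHD.K776.Formal
import Mathlib.CategoryTheory.Monoidal.Cartesian.Over
import Mathlib.CategoryTheory.Monoidal.Cartesian.Grp

/-!
# The Néron mapping property through the restriction morphism in `Over S`
-/

set_option autoImplicit false
universe u
open CategoryTheory CategoryTheory.Limits AlgebraicGeometry

namespace K776.Res

open K776.Basic K776.Formal

variable {S : Scheme.{u}} (U : S.Opens)

/-- The restriction of `Z` to `U`, as an `S`-scheme. -/
noncomputable def res (Z : Over S) : Over S := Over.mk ((Z.hom ⁻¹ᵁ U).ι ≫ Z.hom)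

/-- The inclusion of the restriction. -/
noncomputable def resι (Z : Over S) : res U Z ⟶ Z := Over.homMk (Z.hom ⁻¹ᵁ U).ι rfl

@[simp] lemma resι_left (Z : Over S) : (resι U Z).left = (Z.hom ⁻¹ᵁ U).ι := rfl

lemma uniqAt_iff {Z N : Over S} : UniqAt U Z N ↔ ∀ g g' : Z ⟶ N, resι U Z ≫ g = resι U Z ≫ g' → g = g' := by
  constructor
  · intro h g g' e
    exact h g g' congr($(e).left)
  · intro h g g' e
    exact h g g' (by ext1; exact e)

lemma extAt_iff {Z N : Over S} : ExtAt U Z N ↔ ∀ h : res U Z ⟶ N, ∃ g : Z ⟶ N, resι U Z ≫ g = h := by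
  constructor
  · intro H h
    obtain ⟨g, hg⟩ := H h.left (Over.w h)
    exact ⟨g, by ext1; exact hg⟩
  · intro H h hh
    obtain ⟨g, hg⟩ := H (Over.homMk h hh)
    exact ⟨g, congr($(hg).left)⟩

lemma bij_iff' {Z N : Over S} :
    Function.Bijective (fun g : Z ⟶ N => (Over.pullback U.ι).map g) ↔
      (∀ g g' : Z ⟶ N, resι U Z ≫ g = resι U Z ≫ g' → g = g') ∧
        ∀ h : res U Z ⟶ N, ∃ g : Z ⟶ N, resι U Z ≫ g = h := by
  rw [bij_iff, uniqAt_iff, extAt_iff]

lemma map_eq_iff_res {Z N : Over S} (g g' : Z ⟶ N) :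
    (Over.pullback U.ι).map g = (Over.pullback U.ι).map g' ↔ resι U Z ≫ g = resι U Z ≫ g' := by
  rw [map_eq_iff']
  constructor
  · intro h; ext1; exact h
  · intro h; exact congr($(h).left)

open MonoidalCategory CartesianMonoidalCategory MonObj GrpObj

/-- The Néron mapping property at `Z` for a product in `Over S`. -/
lemma tensor_bij {Z N M : Over S}
    (hN : Function.Bijective (fun g : Z ⟶ N => (Over.pullback U.ι).map g))
    (hM : Function.Bijective (fun g : Z ⟶ M => (Over.pullback U.ι).map g)) :
    Function.Bijective (fun g : Z ⟶ N ⊗ M => (Over.pullback U.ι).map g) := by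
  rw [bij_iff'] at *
  constructor
  · intro g g' h
    apply CartesianMonoidalCategory.hom_ext
    · apply hN.1
      rw [← Category.assoc, h, Category.assoc]
    · apply hM.1
      rw [← Category.assoc, h, Category.assoc]
  · intro h
    obtain ⟨a, ha⟩ := hN.2 (h ≫ fst _ _)
    obtain ⟨b, hb⟩ := hM.2 (h ≫ snd _ _)
    refine ⟨lift a b, ?_⟩
    rw [comp_lift, ha, hb]
    apply CartesianMonoidalCategory.hom_ext <;> simp

instance smooth_tensor (N M : Over S) [Smooth N.hom] [Smooth M.hom] : Smooth (N ⊗ M).hom := by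
  rw [Over.tensorObj_hom]
  infer_instance

/-- A morphism between two smooth schemes with the Néron mapping property which is an isomorphism
over the open is an isomorphism. -/
lemma isIso_of_isIso_restrict {P Q : Over S}
    (hQP : Function.Bijective (fun g : Q ⟶ P => (Over.pullback U.ι).map g))
    (hPP : Function.Injective (fun g : P ⟶ P => (Over.pullback U.ι).map g))
    (hQQ : Function.Injective (fun g : Q ⟶ Q => (Over.pullback U.ι).map g))
    (t : P ⟶ Q) (ht : IsIso ((Over.pullback U.ι).map t)) : IsIso t := by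
  obtain ⟨s, hs⟩ := hQP.2 (inv ((Over.pullback U.ι).map t))
  have hs' : (Over.pullback U.ι).map s = inv ((Over.pullback U.ι).map t) := hs
  refine ⟨s, hPP ?_, hQQ ?_⟩
  · change (Over.pullback U.ι).map (t ≫ s) = (Over.pullback U.ι).map (𝟙 P)
    rw [Functor.map_comp, hs', IsIso.hom_inv_id, CategoryTheory.Functor.map_id]
  · change (Over.pullback U.ι).map (s ≫ t) = (Over.pullback U.ι).map (𝟙 Q)
    rw [Functor.map_comp, hs', IsIso.inv_hom_id, CategoryTheory.Functor.map_id]

end K776.Res
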