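import Groth.Agent.FlatA.EtaleSliceGeom
import Groth.Agent.FlatA.SeparablePoint
import Mathlib.AlgebraicGeometry.Morphisms.Smooth

/-!
# In residue characteristic zero every nonempty closed subset of the source of a smooth morphism meets
an étale quasi-section
-/

set_option autoImplicit false
universe u
open CategoryTheory CategoryTheory.Limits AlgebraicGeometry TensorProduct

namespace K776.Slice

open Groth.Agent.FlatA

theorem exists_prime_field (k F : Type u) [Field k] [CharZero k] [CommRing F] [Algebra k F]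
    [Algebra.FiniteType k F] [Nontrivial F] :
    ∃ (m : Ideal F) (_ : m.IsPrime), Algebra.FormallyUnramified k m.ResidueField := by
  obtain ⟨m₀, hm₀⟩ := Ideal.exists_maximal F
  refine ⟨m₀, inferInstance, ?_⟩
  let := Ideal.Quotient.field m₀
  have : Module.Finite k (F ⧸ m₀) := finite_of_finite_type_of_isJacobsonRing k (F ⧸ m₀)
  have h1 : Module.Finite k m₀.ResidueField :=
    .of_surjective (IsScalarTower.toAlgHom k (F ⧸ m₀) m₀.ResidueField).toLinearMap
      m₀.bijective_algebraMap_quotient_residueField.2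
  have : Algebra.IsSeparable k m₀.ResidueField := inferInstance
  exact Algebra.FormallyUnramified.of_isSeparable _ _

/-- Auxiliary form of `exists_prime` for a field-valued point of the base. -/
theorem exists_prime_aux (A B K : Type u) [CommRing A] [CommRing B] [Field K] [CharZero K]
    [Algebra A B] [Algebra A K] [Algebra.FiniteType A B] [Algebra.FormallyUnramified A K] (I : Ideal B)
    (hK : (algebraMap A K).SurjectiveOnStalks) [Nontrivial (K ⊗[A] (B ⧸ I))] :
    ∃ (q : Ideal B) (_ : q.IsPrime), I ≤ q ∧ q.comap (algebraMap A B) = RingHom.ker (algebraMap A K) ∧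
      Algebra.FormallyUnramified A q.ResidueField := by
  obtain ⟨m, hm, hmu⟩ := exists_prime_field K (K ⊗[A] (B ⧸ I))
  have h3 : Algebra.FormallyUnramified A m.ResidueField := .comp A K _
  let φ : B →ₐ[A] (K ⊗[A] (B ⧸ I)) :=
    (Algebra.TensorProduct.includeRight (R := A) (A := K) (B := B ⧸ I)).comp (Ideal.Quotient.mkₐ A I)
  have hφ : φ.toRingHom.SurjectiveOnStalks := by
    have e1 : (Algebra.TensorProduct.includeRight (R := A) (A := K) (B := B ⧸ I)).toRingHom.SurjectiveOnStalks :=
      hK.baseChange'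
    have e2 : (Ideal.Quotient.mk I).SurjectiveOnStalks :=
      RingHom.surjectiveOnStalks_of_surjective Ideal.Quotient.mk_surjective
    exact e1.comp e2
  refine ⟨m.comap φ.toRingHom, inferInstance, ?_, ?_,
    SeparablePoint.formallyUnramified_residueField_of_surjectiveOnStalks φ hφ _ m rfl⟩
  · intro x hx
    have : φ x = 0 := by
      change Algebra.TensorProduct.includeRight (Ideal.Quotient.mk I x) = 0
      rw [Ideal.Quotient.eq_zero_iff_mem.mpr hx, map_zero]
    rw [Ideal.mem_comap]
    change φ x ∈ m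
    rw [this]
    exact m.zero_mem
  · have h4 : φ.toRingHom.comp (algebraMap A B) =
        (algebraMap K (K ⊗[A] (B ⧸ I))).comp (algebraMap A K) := by
      rw [← IsScalarTower.algebraMap_eq]
      exact φ.comp_algebraMap
    rw [Ideal.comap_comap, h4, ← Ideal.comap_comap]
    have h5 : (m.comap (algebraMap K (K ⊗[A] (B ⧸ I)))) = ⊥ :=
      (Ideal.eq_bot_or_top _).resolve_right (Ideal.IsPrime.ne_top inferInstance)
    rw [h5]
    rfl

/-- A prime of a finite type algebra, containing a given ideal, in a given fibre, with residue field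
formally unramified over the base. -/
theorem exists_prime (A B : Type u) [CommRing A] [CommRing B] [Algebra A B] [Algebra.FiniteType A B]
    (p : Ideal A) [p.IsPrime] [CharZero p.ResidueField] (I : Ideal B) (q₀ : Ideal B) [q₀.IsPrime]
    (hI : I ≤ q₀) (hq₀ : q₀.comap (algebraMap A B) = p) :
    ∃ (q : Ideal B) (_ : q.IsPrime), I ≤ q ∧ q.comap (algebraMap A B) = p ∧
      Algebra.FormallyUnramified A q.ResidueField := by
  have hqI : (q₀.map (Ideal.Quotient.mk I)).IsPrime := by
    refine Ideal.map_isPrime_of_surjective Ideal.Quotient.mk_surjective ?_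
    rwa [Ideal.mk_ker]
  have hqI' : (q₀.map (Ideal.Quotient.mk I)).comap (Ideal.Quotient.mk I) = q₀ := by
    rw [Ideal.comap_map_of_surjective _ Ideal.Quotient.mk_surjective, sup_eq_left]
    intro x hx
    exact hI (Ideal.Quotient.eq_zero_iff_mem.mp hx)
  have : (q₀.map (Ideal.Quotient.mk I)).LiesOver p := by
    refine ⟨?_⟩
    rw [Ideal.under_def, ← hq₀]
    conv_lhs => rw [← hqI']
    rw [Ideal.comap_comap]
    rfl
  let y₀ : PrimeSpectrum (p.Fiber (B ⧸ I)) :=
    PrimeSpectrum.primesOverOrderIsoFiber A (B ⧸ I) p ⟨q₀.map (Ideal.Quotient.mk I), hqI, ‹_›⟩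
  have : Nontrivial (p.Fiber (B ⧸ I)) := y₀.nontrivial
  have h1 : Algebra.FormallyUnramified A (Localization.AtPrime p) :=
    .of_isLocalization p.primeCompl
  have h2 : Algebra.FormallyUnramified A p.ResidueField :=
    .comp A (Localization.AtPrime p) _
  have := exists_prime_aux A B p.ResidueField I p.surjectiveOnStalks_residueField
  rwa [Ideal.ker_algebraMap_residueField] at this

/-- Every point of a closed subset of the source of a smooth morphism over a base of residue
characteristic zero can be replaced by one through which there is an étale quasi-section. -/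
theorem exists_slice {k : Type u} [Field k] [CharZero k] {X S : Scheme.{u}}
    (σ : S ⟶ Spec (CommRingCat.of k)) (f : X ⟶ S) [Smooth f] (C : Set X) (hC : IsClosed C)
    (c : X) (hc : c ∈ C) :
    ∃ (Z : Scheme.{u}) (i : Z ⟶ X) (z : Z), Etale (i ≫ f) ∧ i z ∈ C := by
  obtain ⟨_, ⟨U, hU, rfl⟩, hxU, -⟩ :=
    S.isBasis_affineOpens.exists_subset_of_mem_open (Set.mem_univ (f c)) isOpen_univ
  obtain ⟨_, ⟨V, hV, rfl⟩, hxV, hVU⟩ :=
    X.isBasis_affineOpens.exists_subset_of_mem_open hxU (U.2.preimage f.continuous)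
  have hsm := f.smooth_appLE hU hV hVU
  have h0 : IsAffineOpen U := hU
  algebraize [(f.appLE U V hVU).hom]
  have := (hU.primeIdealOf ⟨f c, hxU⟩).isPrime
  have := (hV.primeIdealOf ⟨c, hxV⟩).isPrime
  let ψ : k →+* Γ(S, U) := ((Scheme.ΓSpecIso (CommRingCat.of k)).inv ≫ σ.appTop ≫
    S.presheaf.map (homOfLE (le_top : U ≤ ⊤)).op).hom
  have : CharZero (hU.primeIdealOf ⟨f c, hxU⟩).asIdeal.ResidueField :=
    charZero_of_injective_ringHom ((algebraMap Γ(S, U)
      (hU.primeIdealOf ⟨f c, hxU⟩).asIdeal.ResidueField).comp ψ).injective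
  let C' : Set (PrimeSpectrum Γ(X, V)) := hV.fromSpec ⁻¹' C
  have hC' : IsClosed C' := hC.preimage hV.fromSpec.continuous
  have hmem : ∀ y : PrimeSpectrum Γ(X, V), PrimeSpectrum.vanishingIdeal C' ≤ y.asIdeal → y ∈ C' := by
    intro y hy
    have h1 : y ∈ PrimeSpectrum.zeroLocus (PrimeSpectrum.vanishingIdeal C' : Set Γ(X, V)) := hy
    rwa [PrimeSpectrum.zeroLocus_vanishingIdeal_eq_closure, hC'.closure_eq] at h1
  obtain ⟨q, hq, hqI, hqp, hqu⟩ := exists_prime Γ(S, U) Γ(X, V)
    (hU.primeIdealOf ⟨f c, hxU⟩).asIdeal (PrimeSpectrum.vanishingIdeal C')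
    (hV.primeIdealOf ⟨c, hxV⟩).asIdeal (by
      have h2 : hV.primeIdealOf ⟨c, hxV⟩ ∈ C' := by
        change hV.fromSpec (hV.primeIdealOf ⟨c, hxV⟩) ∈ C
        rwa [hV.fromSpec_primeIdealOf]
      intro x hx
      exact (PrimeSpectrum.mem_vanishingIdeal _ _).mp hx _ h2)
    congr($(IsAffineOpen.comap_primeIdealOf_appLE U hU V hV hVU hxV).1)
  obtain ⟨y, rfl⟩ : ∃ y : ↑(Spec Γ(X, V)), y.asIdeal = q := ⟨⟨q, hq⟩, rfl⟩
  obtain ⟨Z, i, z, h1, h2, h3, h4⟩ := EtaleSliceGeom.exists_etale_slice f hU hV hVU y hqu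
  exact ⟨Z, i, z, h2, by rw [h3]; exact hmem y hqI⟩

end K776.Slice
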