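import Groth.Agent.NeronHD.K776.Res
import Groth.Prelude.Def_NonAbH2
import Mathlib.AlgebraicGeometry.Sites.Fpqc

/-!
# The Néron mapping property of a group and of a torsor under it
-/

set_option autoImplicit false
universe u
open CategoryTheory MonoidalCategory CartesianMonoidalCategory MonObj GrpObj AlgebraicGeometry

namespace K776.Torsor

open K776.Basic K776.Formal K776.Res

variable {S : Scheme.{u}} (U : S.Opens)

lemma preimage_le {W Z : Over S} (p : W ⟶ Z) : W.hom ⁻¹ᵁ U ≤ p.left ⁻¹ᵁ (Z.hom ⁻¹ᵁ U) := by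
  rw [← Scheme.Hom.comp_preimage, Over.w]

lemma le_preimage {W Z : Over S} (p : W ⟶ Z) : p.left ⁻¹ᵁ (Z.hom ⁻¹ᵁ U) ≤ W.hom ⁻¹ᵁ U := by
  rw [← Scheme.Hom.comp_preimage, Over.w]

/-- Functoriality of the restriction. -/
noncomputable def resMap {W Z : Over S} (p : W ⟶ Z) : res U W ⟶ res U Z :=
  Over.homMk (p.left.resLE (Z.hom ⁻¹ᵁ U) (W.hom ⁻¹ᵁ U) (preimage_le U p)) (by
    change _ ≫ (Z.hom ⁻¹ᵁ U).ι ≫ Z.hom = (W.hom ⁻¹ᵁ U).ι ≫ W.hom
    rw [Scheme.Hom.resLE_comp_ι_assoc, Over.w])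

@[reassoc]
lemma resMap_resι {W Z : Over S} (p : W ⟶ Z) : resMap U p ≫ resι U Z = resι U W ≫ p := by
  ext1
  exact Scheme.Hom.resLE_comp_ι _ _

instance mono_resι (Z : Over S) : Mono (resι U Z) := by
  have : Mono (resι U Z).left := inferInstanceAs (Mono (Z.hom ⁻¹ᵁ U).ι)
  exact Over.mono_of_mono_left _

lemma epi_of_epi_left {W Z : Over S} (p : W ⟶ Z) [Epi p.left] : Epi p :=
  Over.epi_of_epi_left _

lemma epi_resMap {W Z : Over S} (p : W ⟶ Z) [Smooth p.left] [Surjective p.left] :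
    Epi (resMap U p) := by
  have h1 : Smooth (resMap U p).left :=
    inferInstanceAs (Smooth (p.left.resLE (Z.hom ⁻¹ᵁ U) (W.hom ⁻¹ᵁ U) (preimage_le U p)))
  have h2 : Surjective (resMap U p).left := by
    refine ⟨fun z => ?_⟩
    obtain ⟨w, hw⟩ := p.left.surjective z.1
    have hw' : w ∈ W.hom ⁻¹ᵁ U := le_preimage U p (by
      change p.left w ∈ Z.hom ⁻¹ᵁ U
      rw [hw]; exact z.2)
    refine ⟨⟨w, hw'⟩, ?_⟩
    apply Subtype.ext
    rw [← hw]
    exact Scheme.Hom.coe_resLE_apply _ _ _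
  have h3 : Epi (resMap U p).left := Flat.epi_of_flat_of_surjective _
  exact epi_of_epi_left _

/-- Effective epimorphisms of schemes give descent of morphisms in `Over S`. -/
theorem over_desc {A B W : Over S} (f : A ⟶ B) [EffectiveEpi f.left] (e : A ⟶ W)
    (h : ∀ (T : Over S) (g₁ g₂ : T ⟶ A), g₁ ≫ f = g₂ ≫ f → g₁ ≫ e = g₂ ≫ e) :
    ∃ d : B ⟶ W, f ≫ d = e := by
  have h1 : ∀ {Z : Scheme.{u}} (g₁ g₂ : Z ⟶ A.left), g₁ ≫ f.left = g₂ ≫ f.left →
      g₁ ≫ e.left = g₂ ≫ e.left := by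
    intro Z g₁ g₂ hg
    have hw : g₂ ≫ A.hom = g₁ ≫ A.hom := by
      rw [← Over.w f, ← Category.assoc, ← hg, Category.assoc]
    have := h (Over.mk (g₁ ≫ A.hom)) (Over.homMk g₁ rfl) (Over.homMk g₂ hw)
      (Over.OverMorphism.ext hg)
    exact congr($(this).left)
  refine ⟨Over.homMk (EffectiveEpi.desc f.left e.left h1) ?_, ?_⟩
  · rw [← cancel_epi f.left, ← Category.assoc, EffectiveEpi.fac, Over.w, Over.w]
  · apply Over.OverMorphism.ext
    exact EffectiveEpi.fac f.left e.left h1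

/-- Descent of an extension along a smooth surjective morphism. -/
theorem exists_of_cover {W Z N : Over S} (p : W ⟶ Z) [Smooth p.left] [Surjective p.left]
    (hZ : Smooth Z.hom)
    (huniq : ∀ V : Over S, Smooth V.hom → ∀ g g' : V ⟶ N, resι U V ≫ g = resι U V ≫ g' → g = g')
    (x : W ⟶ N) (x₀ : res U Z ⟶ N) (hx : resι U W ≫ x = resMap U p ≫ x₀) :
    ∃ y : Z ⟶ N, resι U Z ≫ y = x₀ := by
  let V : Over S := Over.mk (Limits.pullback.fst p.left p.left ≫ W.hom)
  have hW : Smooth W.hom := by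
    rw [← Over.w p]
    infer_instance
  have hV : Smooth V.hom := inferInstanceAs (Smooth (Limits.pullback.fst p.left p.left ≫ W.hom))
  let a : V ⟶ W := Over.homMk (Limits.pullback.fst p.left p.left) rfl
  let b : V ⟶ W := Over.homMk (Limits.pullback.snd p.left p.left) (by
    change _ = Limits.pullback.fst p.left p.left ≫ W.hom
    rw [← Over.w p, Limits.pullback.condition_assoc])
  have hab : a ≫ p = b ≫ p := by
    ext1; exact Limits.pullback.condition
  have key : a ≫ x = b ≫ x := by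
    apply huniq V hV
    have hm : resMap U a ≫ resMap U p = resMap U b ≫ resMap U p := by
      rw [← cancel_mono (resι U Z), Category.assoc, Category.assoc, resMap_resι,
        resMap_resι_assoc, resMap_resι_assoc, hab]
    rw [← resMap_resι_assoc, ← resMap_resι_assoc, hx, reassoc_of% hm]
  obtain ⟨y, hy⟩ := over_desc p x (by
    intro T g₁ g₂ hg
    have hg' : g₁.left ≫ p.left = g₂.left ≫ p.left := congr($(hg).left)
    let c : T ⟶ V := Over.homMk (Limits.pullback.lift g₁.left g₂.left hg') (by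
      change _ ≫ Limits.pullback.fst p.left p.left ≫ W.hom = _
      rw [Limits.pullback.lift_fst_assoc, Over.w])
    have h1 : g₁ = c ≫ a := by
      ext1; exact (Limits.pullback.lift_fst _ _ _).symm
    have h2 : g₂ = c ≫ b := by
      ext1; exact (Limits.pullback.lift_snd _ _ _).symm
    rw [h1, h2, Category.assoc, Category.assoc, key])
  refine ⟨y, ?_⟩
  have := epi_resMap U p
  rw [← cancel_epi (resMap U p), resMap_resι_assoc, hy, hx]

section

variable {G N : Over S} [GrpObj G] (a : AlgGrp.Action G N)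

/-- `g • y` on `T`-points. -/
noncomputable def sm {T : Over S} (g : T ⟶ G) (y : T ⟶ N) : T ⟶ N := lift g y ≫ a.act

lemma comp_sm {T T' : Over S} (f : T' ⟶ T) (g : T ⟶ G) (y : T ⟶ N) :
    f ≫ sm a g y = sm a (f ≫ g) (f ≫ y) := by
  rw [sm, sm, comp_lift_assoc]

lemma one_sm {T : Over S} (y : T ⟶ N) : sm a 1 y = y := by
  have h1 : lift (1 : T ⟶ G) y = lift (toUnit T) y ≫ (η[G] ▷ N) := by
    rw [Hom.one_def, lift_whiskerRight]
  rw [sm, h1, Category.assoc, a.one_act, ← Iso.eq_comp_inv]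
  apply CartesianMonoidalCategory.hom_ext <;> simp

variable {a} (ha : NonAbH1.IsPseudoTorsorSch a)

include ha in
lemma sm_inj {T : Over S} {g g' : T ⟶ G} {y : T ⟶ N} (h : sm a g y = sm a g' y) : g = g' := by
  have : IsIso (lift a.act (snd G N)) := ha
  have h1 : lift g y = lift g' y := by
    rw [← cancel_mono (lift a.act (snd G N)), comp_lift, comp_lift, lift_snd, lift_snd]
    rw [sm, sm] at h
    rw [h]
  have := congr($h1 ≫ fst G N)
  rwa [lift_fst, lift_fst] at this

include ha in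
lemma exists_sm {T : Over S} (x y : T ⟶ N) : ∃ g : T ⟶ G, sm a g y = x := by
  have : IsIso (lift a.act (snd G N)) := ha
  refine ⟨lift x y ≫ inv (lift a.act (snd G N)) ≫ fst G N, ?_⟩
  set c := lift x y ≫ inv (lift a.act (snd G N)) with hc
  have h1 : c ≫ lift a.act (snd G N) = lift x y := by
    rw [hc, Category.assoc, IsIso.inv_hom_id, Category.comp_id]
  have h2 : c ≫ snd G N = y := by
    have := congr($h1 ≫ snd N N)
    rwa [Category.assoc, lift_snd, lift_snd] at this
  have h3 : c ≫ a.act = x := by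
    have := congr($h1 ≫ fst N N)
    rwa [Category.assoc, lift_fst, lift_fst] at this
  have h4 : lift (c ≫ fst G N) y = c := by
    apply CartesianMonoidalCategory.hom_ext
    · rw [lift_fst]
    · rw [lift_snd, h2]
  rw [← Category.assoc, ← hc, sm, h4, h3]

lemma left_fst (Z N : Over S) : (fst Z N).left = Limits.pullback.fst Z.hom N.hom := rfl

instance smooth_fst (Z N : Over S) [Smooth N.hom] : Smooth (fst Z N).left := by
  rw [left_fst]; infer_instance

instance surjective_fst (Z N : Over S) [Surjective N.hom] : Surjective (fst Z N).left := by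
  rw [left_fst]; infer_instance

include ha in
theorem nmp_of_group [Smooth N.hom] [Surjective N.hom]
    (hG : ∀ Z : Over S, Smooth Z.hom → Function.Bijective (fun g : Z ⟶ G => (Over.pullback U.ι).map g))
    (Z : Over S) (hZ : Smooth Z.hom) :
    Function.Bijective (fun g : Z ⟶ N => (Over.pullback U.ι).map g) := by
  have huniq : ∀ V : Over S, Smooth V.hom → ∀ x y : V ⟶ N, resι U V ≫ x = resι U V ≫ y → x = y := by
    intro V hV x y hxy
    obtain ⟨g, hg⟩ := exists_sm ha x y
    have h1 : resι U V ≫ g = resι U V ≫ 1 := by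
      apply sm_inj ha (y := resι U V ≫ y)
      rw [← comp_sm, ← comp_sm, hg, one_sm, hxy]
    have h2 := ((bij_iff' U).mp (hG V hV)).1 g 1 h1
    rw [← hg, h2, one_sm]
  rw [bij_iff']
  refine ⟨huniq Z hZ, fun x₀ => ?_⟩
  have hWs : Smooth (Z ⊗ N).hom := smooth_tensor Z N
  obtain ⟨g₀, hg₀⟩ := exists_sm ha (resMap U (fst Z N) ≫ x₀) (resι U (Z ⊗ N) ≫ snd Z N)
  obtain ⟨g, hg⟩ := ((bij_iff' U).mp (hG (Z ⊗ N) hWs)).2 g₀
  exact exists_of_cover U (fst Z N) hZ huniq (sm a g (snd Z N)) x₀ (by rw [comp_sm, hg, hg₀])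

include ha in
theorem group_of_nmp [Smooth N.hom] [Surjective N.hom]
    (hN : ∀ Z : Over S, Smooth Z.hom → Function.Bijective (fun g : Z ⟶ N => (Over.pullback U.ι).map g))
    (Z : Over S) (hZ : Smooth Z.hom) :
    Function.Bijective (fun g : Z ⟶ G => (Over.pullback U.ι).map g) := by
  have huniq : ∀ V : Over S, Smooth V.hom → ∀ x y : V ⟶ G, resι U V ≫ x = resι U V ≫ y → x = y := by
    intro V hV x y hxy
    have hWs : Smooth (V ⊗ N).hom := smooth_tensor V N
    have hep : Epi (fst V N).left := Flat.epi_of_flat_of_surjective _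
    have hep' : Epi (fst V N) := epi_of_epi_left _
    rw [← cancel_epi (fst V N)]
    apply sm_inj ha (y := snd V N)
    apply ((bij_iff' U).mp (hN (V ⊗ N) hWs)).1
    rw [comp_sm, comp_sm, ← resMap_resι_assoc, ← resMap_resι_assoc, hxy]
  rw [bij_iff']
  refine ⟨huniq Z hZ, fun x₀ => ?_⟩
  have hWs : Smooth (Z ⊗ N).hom := smooth_tensor Z N
  obtain ⟨x, hx⟩ := ((bij_iff' U).mp (hN (Z ⊗ N) hWs)).2
    (sm a (resMap U (fst Z N) ≫ x₀) (resι U (Z ⊗ N) ≫ snd Z N))
  obtain ⟨g, hg⟩ := exists_sm ha x (snd Z N)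
  exact exists_of_cover U (fst Z N) hZ huniq g x₀ (by
    apply sm_inj ha (y := resι U (Z ⊗ N) ≫ snd Z N)
    rw [← comp_sm, hg, hx])

end

end K776.Torsor
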