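import Mathlib.AlgebraicGeometry.AlgClosed.Basic
import Mathlib.AlgebraicGeometry.Morphisms.UniversallyInjective
import Mathlib.AlgebraicGeometry.FunctionField

/-!
# Morphisms of schemes of finite type over an algebraically closed field, injective on rational points
-/

set_option autoImplicit false
universe u
open CategoryTheory CategoryTheory.Limits AlgebraicGeometry

namespace K776.UnivInj

/-- A separated morphism of schemes locally of finite type over an algebraically closed field which is
injective on rational points is universally injective. -/
theorem universallyInjective_of_injective_points {k : Type u} [Field k] [IsAlgClosed k]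
    {X Y : Scheme.{u}} (sX : X ⟶ Spec (CommRingCat.of k)) (sY : Y ⟶ Spec (CommRingCat.of k))
    [LocallyOfFiniteType sX] (f : X ⟶ Y) [IsSeparated f] (hf : f ≫ sY = sX)
    (hinj : ∀ a b : Spec (CommRingCat.of k) ⟶ X, a ≫ sX = 𝟙 _ → b ≫ sX = 𝟙 _ → a ≫ f = b ≫ f → a = b) :
    UniversallyInjective f := by
  have hlft : LocallyOfFiniteType (f ≫ sY) := by rw [hf]; infer_instance
  have hlf : LocallyOfFiniteType f := locallyOfFiniteType_of_comp f sY
  let p : pullback f f ⟶ Spec (CommRingCat.of k) := pullback.fst f f ≫ sX
  have hp : LocallyOfFiniteType p := inferInstanceAs (LocallyOfFiniteType (pullback.fst f f ≫ sX))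
  have hJ : JacobsonSpace ↥(pullback f f) := LocallyOfFiniteType.jacobsonSpace p
  rw [UniversallyInjective.iff_diagonal, surjective_iff, ← Set.range_eq_univ]
  have hcl : IsClosed (Set.range (pullback.diagonal f)) := (pullback.diagonal f).isClosedEmbedding.isClosed_range
  rw [← hcl.closure_eq, Set.eq_univ_iff_forall]
  intro z
  have hz : z ∈ closure (closedPoints ↥(pullback f f)) := by rw [closure_closedPoints]; trivial
  refine closure_mono ?_ hz
  intro z hz
  let q := pointOfClosedPoint p z hz
  have hq : q ≫ p = 𝟙 _ := pointOfClosedPoint_comp p z hz
  let pt : Spec (CommRingCat.of k) := IsLocalRing.closedPoint k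
  have hqz : q pt = z := pointOfClosedPoint_apply p z hz _
  have h1 : q ≫ pullback.fst f f = q ≫ pullback.snd f f := by
    apply hinj
    · rw [Category.assoc]; exact hq
    · rw [Category.assoc, ← hf, ← pullback.condition_assoc, hf]; exact hq
    · rw [Category.assoc, Category.assoc, pullback.condition]
  have h2 : q = (q ≫ pullback.fst f f) ≫ pullback.diagonal f := by
    apply pullback.hom_ext
    · simp
    · simp [h1]
  refine ⟨(q ≫ pullback.fst f f) pt, ?_⟩
  rw [← Scheme.Hom.comp_apply, ← h2, hqz]

/-- A universally injective dominant morphism of integral schemes of characteristic zero is birational. -/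
theorem isIso_stalkMap_genericPoint {X Y : Scheme.{u}} [IsIntegral X] [IsIntegral Y] (f : X ⟶ Y)
    [UniversallyInjective f] (hgen : f (genericPoint X) = genericPoint Y)
    [CharZero (Y.residueField (f (genericPoint X)))] :
    IsIso (f.stalkMap (genericPoint X)) := by
  have h1 : (f.residueFieldMap (genericPoint X)).hom.IsPurelyInseparable :=
    ((((tfae_universallyInjective f).out 0 2 :)).mp ‹_›).2 _
  have h2 : Function.Surjective (f.residueFieldMap (genericPoint X)).hom := by
    algebraize [(f.residueFieldMap (genericPoint X)).hom]
    have h3 : IsPurelyInseparable (Y.residueField (f (genericPoint X)))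
      (X.residueField (genericPoint X)) := h1
    exact IsPurelyInseparable.surjective_algebraMap_of_isSeparable _ _
  have hX : IsField (X.presheaf.stalk (genericPoint X)) := Field.toIsField X.functionField
  have hY : IsField (Y.presheaf.stalk (f (genericPoint X))) := by
    rw [hgen]; exact Field.toIsField Y.functionField
  rw [ConcreteCategory.isIso_iff_bijective]
  constructor
  · let _ := hY.toField
    exact RingHom.injective (f.stalkMap (genericPoint X)).hom
  · intro b
    obtain ⟨a, ha⟩ := h2 (X.residue _ b)
    obtain ⟨a, rfl⟩ := Y.residue_surjective _ a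
    refine ⟨a, ?_⟩
    have h4 : X.residue (genericPoint X) ((f.stalkMap (genericPoint X)).hom a) =
      X.residue (genericPoint X) b := by
      rw [← ha]
      have := Scheme.residue_residueFieldMap f (genericPoint X)
      exact congrArg (fun φ => φ.hom a) this.symm
    let _ := hX.toField
    exact RingHom.injective (X.residue (genericPoint X)).hom h4

end K776.UnivInj
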