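import Groth.Agent.NeronHD.K776.Slice
import Groth.Agent.NeronHD.K776.Res
import Groth.Agent.Ega4dB.SchDense
import Groth.Agent.S3843

/-!
# The weak Néron mapping property implies uniqueness for all smooth test schemes
-/

set_option autoImplicit false
universe u
open CategoryTheory CategoryTheory.Limits AlgebraicGeometry

namespace K776.Weak

open K776.Basic K776.Formal K776.Res Groth.Agent

/-- A preimmersion whose range is closed is a closed immersion. -/
lemma isClosedImmersion_of_isClosed_range {X Y : Scheme.{u}} (i : X ⟶ Y) [IsPreimmersion i]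
    (h : IsClosed (Set.range i)) : IsClosedImmersion i where
  isClosedEmbedding := ⟨i.isEmbedding, h⟩

/-- A locally closed subset of a space containing a point of each nonempty closed subset is closed, if
moreover it meets each nonempty closed subset. -/
lemma isClosed_of_meets {X : Type*} [TopologicalSpace X] {R : Set X} (hR : IsLocallyClosed R)
    (h : ∀ C : Set X, IsClosed C → C.Nonempty → (C ∩ R).Nonempty) : IsClosed R := by
  have h1 : IsOpen (coborder R) := hR.isOpen_coborder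
  have h2 : coborder R = Set.univ := by
    by_contra hne
    obtain ⟨x, hx1, hx2⟩ := h (coborder R)ᶜ h1.isClosed_compl (by
      rwa [Set.nonempty_compl])
    exact hx1 (subset_coborder hx2)
  rwa [coborder_eq_univ_iff] at h2

theorem eq_of_weak {k : Type u} [Field k] [CharZero k] {S : Scheme.{u}}
    (σ : S ⟶ Spec (CommRingCat.of k)) (U : S.Opens) (hU : CInt.IsSchematicallyDense U) (N : Over S)
    (hN : ∀ V : Over S, Etale V.hom → ∀ g g' : V ⟶ N, resι U V ≫ g = resι U V ≫ g' → g = g')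
    (Z : Over S) [Smooth Z.hom] (g g' : Z ⟶ N) (h : resι U Z ≫ g = resι U Z ≫ g') : g = g' := by
  let ι := equalizer.ι g.left g'.left
  have hcond : ι ≫ g.left = ι ≫ g'.left := equalizer.condition _ _
  have hcl : IsClosed (Set.range ι) := by
    apply isClosed_of_meets ι.isLocallyClosed_range
    rintro C hC ⟨c, hc⟩
    obtain ⟨W, i, w, het, hw⟩ := Slice.exists_slice σ Z.hom C hC c hc
    let V : Over S := Over.mk (i ≫ Z.hom)
    let i' : V ⟶ Z := Over.homMk i rfl
    have h1 : i' ≫ g = i' ≫ g' := by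
      apply hN V het
      have hr : ∃ r : res U V ⟶ res U Z, r ≫ resι U Z = resι U V ≫ i' := by
        have hle : V.hom ⁻¹ᵁ U ≤ i'.left ⁻¹ᵁ (Z.hom ⁻¹ᵁ U) := by
          rw [← Scheme.Hom.comp_preimage, Over.w]
        refine ⟨Over.homMk (i'.left.resLE (Z.hom ⁻¹ᵁ U) (V.hom ⁻¹ᵁ U) hle) ?_, ?_⟩
        · change _ ≫ (Z.hom ⁻¹ᵁ U).ι ≫ Z.hom = (V.hom ⁻¹ᵁ U).ι ≫ V.hom
          rw [Scheme.Hom.resLE_comp_ι_assoc, Over.w]
        · ext1
          exact Scheme.Hom.resLE_comp_ι _ _
      obtain ⟨r, hr⟩ := hr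
      rw [← Category.assoc, ← hr, Category.assoc, h, reassoc_of% hr]
    have h2 : i ≫ g.left = i ≫ g'.left := congr($(h1).left)
    refine ⟨i w, hw, ⟨equalizer.lift i h2 w, ?_⟩⟩
    rw [← Scheme.Hom.comp_apply, equalizer.lift_ι]
  have hci : IsClosedImmersion ι := isClosedImmersion_of_isClosed_range ι hcl
  have hdom := Ega4dB.SchDense.isSchemeTheoreticallyDominant_ι (Z.hom ⁻¹ᵁ U)
    (S3843.result Z.hom U hU)
  have h3 : (Z.hom ⁻¹ᵁ U).ι ≫ g.left = (Z.hom ⁻¹ᵁ U).ι ≫ g'.left := congr($(h).left)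
  have hl : equalizer.lift _ h3 ≫ ι = (Z.hom ⁻¹ᵁ U).ι := equalizer.lift_ι _ _
  have hker : (Scheme.Hom.ker ι) = ⊥ := by
    have h1 := Scheme.Hom.le_ker_comp (equalizer.lift _ h3) ι
    rw [hl, (Z.hom ⁻¹ᵁ U).ι.ker_eq_bot] at h1
    exact le_bot_iff.mp h1
  have : IsIso ι := IsClosedImmersion.isIso_iff_ker_eq_bot.mpr hker
  ext1
  rw [← cancel_epi ι]
  exact hcond

end K776.Weak
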